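import Mathlib
import Cfsg.Agent.S3011

/-!
# Two-transitive binary linear groups whose elements of odd order fix at most a line

Such a group is the full linear group of a space of dimension three, or the space has at most four
elements: a counting argument with an involution gives transvections, and products of two
transvections give elements of order three fixing `d - 2` dimensions.
-/

set_option autoImplicit false

namespace CfsgLib.BenderWorld.InvolInZ

universe u v

variable {G : Type u} [Group G] [Finite G] {V : Type v} [AddCommGroup V] [Module (ZMod 2) V]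
  [Finite V] (ρ : G →* (V ≃ₗ[ZMod 2] V))

/-- The hypotheses. -/
structure LinConfig : Prop where
  trans : ∀ u₁ u₂ v₁ v₂ : V, u₁ ≠ 0 → u₂ ≠ 0 → u₁ ≠ u₂ → v₁ ≠ 0 → v₂ ≠ 0 → v₁ ≠ v₂ →
    ∃ g, ρ g u₁ = v₁ ∧ ρ g u₂ = v₂
  oddFix : ∀ g, Odd (orderOf g) → ∀ u₁ u₂ : V, u₁ ≠ 0 → u₂ ≠ 0 → u₁ ≠ u₂ → ρ g u₁ = u₁ →
    ρ g u₂ = u₂ → ρ g = 1

theorem add_self_eq (x : V) : x + x = 0 := ZModModule.add_self x

theorem mul_apply' (g h : G) (x : V) : ρ (g * h) x = ρ g (ρ h x) := by rw [map_mul]; rfl

theorem inv_apply' (g : G) (x : V) : ρ g⁻¹ (ρ g x) = x := by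
  rw [← mul_apply', inv_mul_cancel, map_one]; rfl

theorem apply_inv' (g : G) (x : V) : ρ g (ρ g⁻¹ x) = x := by
  rw [← mul_apply', mul_inv_cancel, map_one]; rfl

theorem pow_apply_eq {g : G} {x : V} (h : ρ g x = x) (n : ℕ) : ρ (g ^ n) x = x := by
  induction n with
  | zero => rw [pow_zero, map_one]; rfl
  | succ n ih => rw [pow_succ', mul_apply', ih, h]

/-- `γ` inverting `σ` and `σ` fixing only `0, u`: then `γ y ≠ y + u`. -/
theorem inverted_false (γ σ : Module.End (ZMod 2) V) (j : ℕ) (hσ : σ ^ (2 * j + 1) = 1)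
    (hinv : γ * σ = σ ^ (2 * j) * γ) {u : V} (hu : u ≠ 0) (hσu : σ u = u)
    (hfix : ∀ v, σ v = v → v = 0 ∨ v = u) (hγu : γ u = u) (hγ : ∀ v, γ (γ v) = v)
    {y : V} (hy : γ y = y + u) : False := by
  have hpu : ∀ n : ℕ, (σ ^ n) u = u := fun n => by
    induction n with
    | zero => rfl
    | succ n ih => rw [pow_succ', Module.End.mul_apply, ih, hσu]
  have hconj : ∀ i, γ * σ ^ i = σ ^ (2 * j * i) * γ := fun i => by
    induction i with
    | zero => simp
    | succ i ih =>
      rw [pow_succ, ← mul_assoc, ih, mul_assoc, hinv, ← mul_assoc, ← pow_add]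
      congr 2
  have hred : ∀ i, i ≤ 2 * j + 1 → σ ^ (2 * j * i) = σ ^ (2 * j + 1 - i) := fun i hi => by
    have e : σ ^ (2 * j * i) * σ ^ i = 1 := by
      rw [← pow_add, show 2 * j * i + i = (2 * j + 1) * i by ring, pow_mul, hσ, one_pow]
    calc σ ^ (2 * j * i) = σ ^ (2 * j * i) * (σ ^ i * σ ^ (2 * j + 1 - i)) := by
          rw [← pow_add, Nat.add_sub_cancel' hi, hσ, mul_one]
      _ = σ ^ (2 * j + 1 - i) := by rw [← mul_assoc, e, one_mul]
  set f : ℕ → V := fun i => (σ ^ i) y with hf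
  set T := ∑ i ∈ Finset.range (2 * j + 1), f i with hT
  have hTfix : σ T = T := by
    have hs : ∀ i, σ (f i) = f (i + 1) := fun i => by simp only [hf, pow_succ', Module.End.mul_apply]
    rw [hT, map_sum, Finset.sum_congr rfl fun i _ => hs i, Finset.sum_range_succ,
      Finset.sum_range_succ' f (2 * j)]
    congr 1
    simp [hf, hσ]
  have hTγ : γ T = T := by
    rcases hfix T hTfix with e | e
    · rw [e, map_zero]
    · rw [e, hγu]
  set z := ∑ i ∈ Finset.range j, f (i + 1) with hz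
  have hγz : γ z = (∑ i ∈ Finset.range j, f (2 * j - i)) + j • u := by
    rw [hz, map_sum]
    have : ∀ i ∈ Finset.range j, γ (f (i + 1)) = f (2 * j - i) + u := fun i hi => by
      have hi' := Finset.mem_range.1 hi
      show (γ * σ ^ (i + 1)) y = _
      rw [hconj, hred _ (by omega), show 2 * j + 1 - (i + 1) = 2 * j - i by omega, Module.End.mul_apply,
        hy, map_add, hpu]
    rw [Finset.sum_congr rfl this, Finset.sum_add_distrib, Finset.sum_const, Finset.card_range]
  have hsum : T = y + z + ∑ i ∈ Finset.range j, f (2 * j - i) := by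
    rw [hT, Finset.sum_range_succ', two_mul, Finset.sum_range_add, hz,
      ← Finset.sum_range_reflect (fun i => f (j + i + 1)) j]
    have h0 : f 0 = y := rfl
    rw [h0, add_comm _ y, ← add_assoc]
    congr 1
    exact Finset.sum_congr rfl fun i hi => by
      have := Finset.mem_range.1 hi
      congr 1
      omega
  have hyeq : y = T + z + γ z + j • u := by
    rw [hsum, hγz]
    set R := ∑ i ∈ Finset.range j, f (2 * j - i)
    rw [show y + z + R + z + (R + j • u) + j • u = y + (z + z) + (R + R) + (j • u + j • u) by abel,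
      add_self_eq, add_self_eq, add_self_eq, add_zero, add_zero, add_zero]
  apply hu
  have h2 : γ y = y := by
    conv_lhs => rw [hyeq]
    rw [map_add, map_add, map_add, hTγ, hγ, map_nsmul, hγu]
    conv_rhs => rw [hyeq]
    abel
  rw [hy] at h2
  simpa using h2

theorem mem_span_singleton_two {u v : V} :
    v ∈ Submodule.span (ZMod 2) {u} ↔ v = 0 ∨ v = u := by
  rw [Submodule.mem_span_singleton]
  constructor
  · rintro ⟨a, rfl⟩
    rcases (by revert a; decide : a = 0 ∨ a = 1) with rfl | rfl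
    · exact Or.inl (zero_smul _ u)
    · exact Or.inr (one_smul _ u)
  · rintro (rfl | rfl)
    · exact ⟨0, zero_smul _ u⟩
    · exact ⟨1, one_smul _ _⟩

namespace LinConfig

variable {ρ}

/-- A non-trivial transvection. -/
theorem exists_transvection (h : LinConfig ρ) {a b : V} (ha : a ≠ 0) (hb : b ≠ 0) (hab : a ≠ b) :
    ∃ (u : V) (g : G), u ≠ 0 ∧ ρ g u = u ∧ (∀ v, ρ g v = v ∨ ρ g v = v + u) ∧ ρ g ≠ 1 := by
  classical
  by_contra hno
  push Not at hno
  haveI : Finite (V ≃ₗ[ZMod 2] V) := Finite.of_injective _ DFunLike.coe_injective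
  -- an element acting as an involution
  obtain ⟨n, hn1, hn2⟩ := h.trans a b b a ha hb hab hb ha hab.symm
  obtain ⟨g, hg⟩ : ∃ g, orderOf (ρ g) = 2 := by
    have h2 : ρ (n ^ 2) a = a := by rw [pow_two, mul_apply', hn1, hn2]
    have hev : 2 ∣ orderOf (ρ n) := by
      by_contra hodd
      obtain ⟨m, hm⟩ := exists_pow_eq_self_of_coprime (x := ρ n) (n := 2)
        ((Nat.prime_two.coprime_iff_not_dvd).2 hodd)
      have h3 := pow_apply_eq ρ h2 m
      rw [map_pow, map_pow, hm, hn1] at h3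
      exact hab h3.symm
    exact ⟨n ^ (orderOf (ρ n) / 2), by rw [map_pow, orderOf_pow_orderOf_div (orderOf_pos _).ne' hev]⟩
  have hgg : ∀ v, ρ g (ρ g v) = v := fun v => by
    have h' := pow_orderOf_eq_one (ρ g)
    rw [hg, pow_two] at h'
    rw [← LinearEquiv.mul_apply, h']; rfl
  obtain ⟨y, hy⟩ : ∃ y, ρ g y ≠ y := by
    by_contra hc
    push Not at hc
    rw [show ρ g = 1 from LinearEquiv.ext hc, orderOf_one] at hg
    omega
  obtain ⟨u, hudef⟩ : ∃ u, u = ρ g y + y := ⟨_, rfl⟩
  have hu : u ≠ 0 := fun e => hy (by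
    have e' : ρ g y + y + y = y := by rw [← hudef, e, zero_add]
    rwa [add_assoc, add_self_eq, add_zero] at e')
  have hgu : ρ g u = u := by rw [hudef, map_add, hgg, add_comm]
  have hgy : ρ g y = y + u := by
    rw [hudef, add_left_comm, add_self_eq, add_zero]
  -- the stabilizer of `u` has no 2-core in its action
  let St : Subgroup G :=
    { carrier := {x | ρ x u = u}
      one_mem' := by show ρ 1 u = u; rw [map_one]; rfl
      mul_mem' := fun {x x'} (hx : ρ x u = u) (hx' : ρ x' u = u) =>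
        (mul_apply' ρ x x' u).trans ((congrArg (ρ x) hx').trans hx)
      inv_mem' := fun {x} (hx : ρ x u = u) => by
        show ρ x⁻¹ u = u
        conv_lhs => rw [← hx]
        exact inv_apply' ρ x u }
  let θ := (ρ.comp St.subtype).rangeRestrict
  let I := (ρ.comp St.subtype).range
  haveI : Finite I := inferInstance
  let γ : I := θ ⟨g, hgu⟩
  have hval : ∀ x : St, ((θ x : I) : V ≃ₗ[ZMod 2] V) = ρ x := fun x => rfl
  have hγo : orderOf γ = 2 := by rw [← Subgroup.orderOf_coe, hval, hg]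
  have hIu : ∀ x : I, (x : V ≃ₗ[ZMod 2] V) u = u := by
    rintro ⟨_, x, rfl⟩
    exact x.2
  have hcore : γ ∉ Cfsg.pCore 2 I := by
    intro hγQ
    let Q := Cfsg.pCore 2 I
    haveI : Fact (Nat.Prime 2) := ⟨Nat.prime_two⟩
    have hQp : IsPGroup 2 Q := CfsgLib.PLocal.isPGroup_pCore 2 _
    haveI : Q.Normal := Cfsg.pCore_normal 2 _
    let L := Submodule.span (ZMod 2) ({u} : Set V)
    -- the vectors fixed by `Q` modulo `u`
    let W : Submodule (ZMod 2) V := ⨅ q : Q,
      L.comap (((q : I) : V ≃ₗ[ZMod 2] V).toLinearMap + LinearMap.id)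
    have hW : ∀ v, v ∈ W ↔ ∀ q : Q, ((q : I) : V ≃ₗ[ZMod 2] V) v + v ∈ L := fun v => by
      simp only [W, Submodule.mem_iInf, Submodule.mem_comap, LinearMap.add_apply,
        LinearEquiv.coe_coe, LinearMap.id_apply]
    -- it is more than `L`
    have hLq : ∀ q : Q, ∀ x ∈ L, ((q : I) : V ≃ₗ[ZMod 2] V) x = x := fun q x hx => by
      rcases mem_span_singleton_two.1 hx with rfl | rfl
      · exact map_zero _
      · exact hIu q
    let act : MulAction Q (V ⧸ L) :=
      { smul := fun q => Quotient.map' (fun v => ((q : I) : V ≃ₗ[ZMod 2] V) v) fun x x' hxx => by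
          rw [Submodule.quotientRel_def] at hxx ⊢
          rw [← map_sub, hLq q _ hxx]
          exact hxx
        one_smul := fun x => Quotient.inductionOn' x fun v => rfl
        mul_smul := fun q q' x => Quotient.inductionOn' x fun v => rfl }
    letI := act
    haveI : Finite (V ⧸ L) := Finite.of_surjective _ (Submodule.Quotient.mk_surjective L)
    have hcard : Even (Nat.card (V ⧸ L)) := by
      have hne : (Submodule.Quotient.mk y : V ⧸ L) ≠ 0 := by
        intro e
        rw [Submodule.Quotient.mk_eq_zero, mem_span_singleton_two] at e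
        rcases e with rfl | rfl
        · exact hy (map_zero _)
        · exact hy hgu
      have h2 : addOrderOf (Submodule.Quotient.mk y : V ⧸ L) = 2 :=
        addOrderOf_eq_prime (by rw [two_nsmul]; exact add_self_eq _) hne
      have h3 := addOrderOf_dvd_natCard (Submodule.Quotient.mk y : V ⧸ L)
      rw [h2] at h3
      exact even_iff_two_dvd.2 h3
    have h0 : (0 : V ⧸ L) ∈ MulAction.fixedPoints Q (V ⧸ L) := fun q => by
      show (Submodule.Quotient.mk (((q : I) : V ≃ₗ[ZMod 2] V) 0) : V ⧸ L) = 0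
      rw [map_zero]; rfl
    obtain ⟨w', hw'fix, hw'ne⟩ := hQp.exists_fixed_point_of_prime_dvd_card_of_fixed_point (V ⧸ L)
      (even_iff_two_dvd.1 hcard) h0
    obtain ⟨w, rfl⟩ := Submodule.Quotient.mk_surjective L w'
    have hwW : w ∈ W := (hW w).2 fun q => by
      have := hw'fix q
      change (Submodule.Quotient.mk (((q : I) : V ≃ₗ[ZMod 2] V) w) : V ⧸ L) = _ at this
      rw [Submodule.Quotient.eq] at this
      rwa [ZModModule.sub_eq_add] at this
    have hwL : w ∉ L := fun e => hw'ne ((Submodule.Quotient.mk_eq_zero L).2 e).symm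
    have hwu : w ≠ 0 ∧ w ≠ u :=
      ⟨fun e => hwL (e ▸ L.zero_mem), fun e => hwL (e ▸ Submodule.mem_span_singleton_self u)⟩
    have hall : ∀ v, v ∈ W := by
      intro v
      by_cases hvL : v ∈ L
      · exact (hW v).2 fun q => by rw [hLq q v hvL, add_self_eq]; exact L.zero_mem
      obtain ⟨x, hx1, hx2⟩ := h.trans u w u v hu hwu.1 (Ne.symm hwu.2) hu
        (fun e => hvL (e ▸ L.zero_mem)) (fun e => hvL (e ▸ Submodule.mem_span_singleton_self u))
      refine (hW v).2 fun q => ?_
      let xI : I := θ ⟨x, hx1⟩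
      have hq' : xI⁻¹ * (q : I) * xI ∈ Q := by
        simpa using ‹Q.Normal›.conj_mem (q : I) q.2 xI⁻¹
      have h2 := (hW w).1 hwW ⟨_, hq'⟩
      have hwv : ρ x⁻¹ v = w := by rw [← hx2, inv_apply']
      have e : ((xI⁻¹ * (q : I) * xI : I) : V ≃ₗ[ZMod 2] V) w =
          ρ x⁻¹ (((q : I) : V ≃ₗ[ZMod 2] V) v) := by
        rw [Subgroup.coe_mul, Subgroup.coe_mul, Subgroup.coe_inv, hval, ← map_inv,
          LinearEquiv.mul_apply, LinearEquiv.mul_apply, hx2]
      rw [e, ← hwv, ← map_add] at h2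
      rcases mem_span_singleton_two.1 h2 with e2 | e2
      · rw [(ρ x⁻¹).map_eq_zero_iff] at e2
        rw [e2]; exact L.zero_mem
      · have : ((q : I) : V ≃ₗ[ZMod 2] V) v + v = u := by
          rw [← apply_inv' ρ x (((q : I) : V ≃ₗ[ZMod 2] V) v + v), e2, hx1]
        rw [this]; exact Submodule.mem_span_singleton_self u
    have := hno u g hu hgu (fun v => by
      rcases mem_span_singleton_two.1 ((hW v).1 (hall v) ⟨γ, hγQ⟩) with e | e
      · refine Or.inl ?_
        have e' : ρ g v + v = 0 := e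
        rw [← add_zero (ρ g v), ← add_self_eq v, ← add_assoc, e', zero_add]
      · refine Or.inr ?_
        have e' : ρ g v + v = u := e
        rw [← e', add_left_comm, add_self_eq, add_zero])
    rw [this, orderOf_one] at hg
    omega
  obtain ⟨σ, hσ1, hσo, hσinv⟩ := Cfsg.Agent.S3011.exists_inverted hγo hcore
  obtain ⟨r, hr⟩ := (ρ.comp St.subtype).rangeRestrict_surjective σ
  obtain ⟨i, m, hm, hrm⟩ :=
    Nat.exists_eq_pow_mul_and_not_dvd (orderOf_pos (r : G)).ne' 2 (by decide)
  have hr' : Odd (orderOf ((r : G) ^ 2 ^ i)) := by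
    rw [orderOf_pow' _ (pow_ne_zero i two_ne_zero), Nat.gcd_eq_right (hrm ▸ dvd_mul_right _ _), hrm,
      Nat.mul_div_cancel_left _ (pow_pos two_pos i)]
    exact Nat.not_even_iff_odd.1 fun he => hm he.two_dvd
  obtain ⟨j, hj⟩ := hσo
  have hσr : ρ ((r : G) ^ 2 ^ i) = ((σ ^ 2 ^ i : I) : V ≃ₗ[ZMod 2] V) := by
    rw [map_pow, Subgroup.coe_pow, ← hr, hval]
  obtain ⟨l, hl⟩ := exists_pow_eq_self_of_coprime (x := σ) (n := 2 ^ i)
    (Nat.Coprime.pow_left i (Nat.coprime_two_left.2 ⟨j, hj⟩))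
  let s : Module.End (ZMod 2) V := ((σ : I) : V ≃ₗ[ZMod 2] V).toLinearMap
  let c : Module.End (ZMod 2) V := (ρ g).toLinearMap
  have hs : ∀ n : ℕ, s ^ n = ((σ ^ n : I) : V ≃ₗ[ZMod 2] V).toLinearMap := fun n => by
    induction n with
    | zero => rfl
    | succ n ih => rw [pow_succ, ih, pow_succ]; rfl
  refine inverted_false c s j ?_ ?_ hu (hIu σ) ?_ hgu hgg hgy
  · rw [hs, ← hj, pow_orderOf_eq_one]; rfl
  · rw [hs]
    have e : γ * σ = σ ^ (2 * j) * γ := by
      have e1 : σ⁻¹ = σ ^ (2 * j) := by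
        rw [inv_eq_of_mul_eq_one_left]
        rw [← pow_succ, ← hj, pow_orderOf_eq_one]
      rw [← e1, ← hσinv, inv_mul_cancel_right]
    exact congrArg (fun z : I => (z : V ≃ₗ[ZMod 2] V).toLinearMap) e
  · intro v hv
    by_contra hne
    push Not at hne
    have hpow : ∀ n : ℕ, (((σ ^ n : I)) : V ≃ₗ[ZMod 2] V) v = v := fun n => by
      induction n with
      | zero => rfl
      | succ n ih =>
        rw [pow_succ]
        show ((σ ^ n : I) : V ≃ₗ[ZMod 2] V) (((σ : I) : V ≃ₗ[ZMod 2] V) v) = v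
        rw [show ((σ : I) : V ≃ₗ[ZMod 2] V) v = v from hv, ih]
    have h1 := h.oddFix _ hr' u v hu hne.1 hne.2.symm (pow_apply_eq ρ r.2 _)
      (by rw [hσr]; exact hpow _)
    apply hσ1
    rw [← hl]
    have : σ ^ 2 ^ i = 1 := Subtype.ext (hσr.symm.trans h1)
    rw [this, one_pow]

/-- All transvections occur. -/
theorem transvection_mem (h : LinConfig ρ) {u : V} (hu : u ≠ 0) (χ : Module.Dual (ZMod 2) V)
    (hχ : χ u = 0) : ∃ g, ∀ v, ρ g v = v + χ v • u := by
  classical
  by_cases hex : ∃ b, b ≠ 0 ∧ b ≠ u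
  swap
  · push Not at hex
    refine ⟨1, fun v => ?_⟩
    have : χ v = 0 := by
      by_cases hv : v = 0
      · rw [hv, map_zero]
      · rw [hex v hv, hχ]
    rw [this, zero_smul, add_zero, map_one]; rfl
  obtain ⟨b, hb, hbu⟩ := hex
  obtain ⟨u', g', hu', hgu', hg'v, hg'1⟩ := h.exists_transvection hu hb (Ne.symm hbu)
  -- move it to `u`
  obtain ⟨g₀, hg₀u, hg₀v, hg₀1⟩ : ∃ g, ρ g u = u ∧ (∀ v, ρ g v = v ∨ ρ g v = v + u) ∧ ρ g ≠ 1 := by
    obtain ⟨b', hb', hbu'⟩ : ∃ b', b' ≠ 0 ∧ b' ≠ u' := by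
      by_cases e : b = u'
      · exact ⟨u, hu, fun e' => hbu (e.trans e'.symm)⟩
      · exact ⟨b, hb, e⟩
    obtain ⟨n, hn1, hn2⟩ := h.trans u' b' u b hu' hb' (Ne.symm hbu') hu hb (Ne.symm hbu)
    refine ⟨n * g' * n⁻¹, ?_, fun v => ?_, fun e => hg'1 ?_⟩
    · rw [mul_apply', mul_apply', show ρ n⁻¹ u = u' by rw [← hn1, inv_apply'], hgu', hn1]
    · rw [mul_apply', mul_apply']
      rcases hg'v (ρ n⁻¹ v) with e | e
      · exact Or.inl (by rw [e, apply_inv'])
      · exact Or.inr (by rw [e, map_add, apply_inv', hn1])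
    · rw [map_mul, map_mul, map_inv, mul_inv_eq_one, mul_eq_left] at e
      exact e
  let Φ : Submodule (ZMod 2) (Module.Dual (ZMod 2) V) :=
    { carrier := {φ | φ u = 0 ∧ ∃ g, ∀ v, ρ g v = v + φ v • u}
      zero_mem' := ⟨rfl, 1, fun v => by simp⟩
      add_mem' := by
        rintro φ φ' ⟨hφ, g, hg⟩ ⟨hφ', g₁, hg₁⟩
        refine ⟨by rw [LinearMap.add_apply, hφ, hφ', add_zero], g * g₁, fun v => ?_⟩
        rw [mul_apply', hg₁, map_add, map_smul, hg, hg u, hφ, zero_smul, add_zero, LinearMap.add_apply,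
          add_smul, add_assoc]
      smul_mem' := by
        rintro a φ hφ
        rcases (by revert a; decide : a = 0 ∨ a = 1) with rfl | rfl
        · exact ⟨by simp, 1, fun v => by simp⟩
        · simpa using hφ }
  -- a functional of the given transvection
  let D : V →ₗ[ZMod 2] V := (ρ g₀).toLinearMap + LinearMap.id
  let L := Submodule.span (ZMod 2) ({u} : Set V)
  let e := LinearEquiv.toSpanNonzeroSingleton (ZMod 2) V u hu
  have hD : ∀ v, D v ∈ L := fun v => by
    show ρ g₀ v + v ∈ L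
    rcases hg₀v v with e | e <;> rw [e]
    · rw [add_self_eq]; exact L.zero_mem
    · rw [add_comm, ← add_assoc, add_self_eq, zero_add]; exact Submodule.mem_span_singleton_self u
  let φ₀ : Module.Dual (ZMod 2) V := e.symm.toLinearMap ∘ₗ D.codRestrict L hD
  have hφ₀ : ∀ v, φ₀ v • u = ρ g₀ v + v := fun v => by
    have := congrArg Subtype.val (e.apply_symm_apply (D.codRestrict L hD v))
    exact this
  have hφ₀u : φ₀ u = 0 := by
    by_contra hne
    have h1 := hφ₀ u
    rw [hg₀u, add_self_eq] at h1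
    exact hu ((smul_eq_zero.1 h1).resolve_left hne)
  have hφ₀mem : φ₀ ∈ Φ := ⟨hφ₀u, g₀, fun v => by
    rw [hφ₀, add_left_comm, add_self_eq, add_zero]⟩
  -- the common kernel is the line
  have hker : Φ.dualCoannihilator = L := by
    refine le_antisymm (fun w hw => ?_) ((Submodule.span_singleton_le_iff_mem _ _).2 ?_)
    · rw [Submodule.mem_dualCoannihilator] at hw
      by_contra hwL
      rw [mem_span_singleton_two, not_or] at hwL
      apply hg₀1
      refine LinearEquiv.ext fun v => ?_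
      show ρ g₀ v = v
      by_cases hv : v = 0 ∨ v = u
      · rcases hv with rfl | rfl
        · exact map_zero _
        · exact hg₀u
      rw [not_or] at hv
      obtain ⟨n, hn1, hn2⟩ := h.trans u w u v hu hwL.1 (Ne.symm hwL.2) hu hv.1 (Ne.symm hv.2)
      have hmem : φ₀ ∘ₗ (ρ n).toLinearMap ∈ Φ := by
        refine ⟨?_, n⁻¹ * g₀ * n, fun z => ?_⟩
        · show φ₀ (ρ n u) = 0
          rw [hn1, hφ₀u]
        · rw [mul_apply', mul_apply']
          show _ = z + φ₀ (ρ n z) • u
          have hnu : ρ n⁻¹ u = u := (congrArg (ρ n⁻¹) hn1.symm).trans (inv_apply' ρ n u)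
          have e : ρ g₀ (ρ n z) = ρ n z + φ₀ (ρ n z) • u := by
            rw [hφ₀, add_left_comm, add_self_eq, add_zero]
          rw [e, map_add, map_smul, inv_apply', hnu]
      have h2 : φ₀ (ρ n w) = 0 := hw _ hmem
      have h3 := hφ₀ v
      rw [← hn2, h2, zero_smul, hn2] at h3
      rw [← add_zero (ρ g₀ v), ← add_self_eq v, ← add_assoc, ← h3, zero_add]
    · exact (Submodule.mem_dualCoannihilator _).2 fun φ hφ => hφ.1
  have hmem : χ ∈ L.dualAnnihilator := (Submodule.mem_dualAnnihilator _).2 fun w hw => by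
    rcases mem_span_singleton_two.1 hw with rfl | rfl
    · exact map_zero _
    · exact hχ
  rw [← hker, Subspace.dualCoannihilator_dualAnnihilator_eq] at hmem
  exact hmem.2

/-- The space has at most eight elements. -/
theorem finrank_le (h : LinConfig ρ) : Module.finrank (ZMod 2) V ≤ 3 := by
  classical
  by_contra hlt
  push Not at hlt
  let B := Module.finBasis (ZMod 2) V
  let k : Fin 4 → Fin (Module.finrank (ZMod 2) V) := Fin.castLE hlt
  have hk : ∀ i j : Fin 4, i ≠ j → k i ≠ k j := fun i j hij e => hij (Fin.castLE_injective hlt e)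
  have hne : ∀ i, B i ≠ 0 := B.ne_zero
  have hco : ∀ i j : Fin 4, B.coord (k i) (B (k j)) = if j = i then 1 else 0 := fun i j => by
    rw [Module.Basis.coord_apply, B.repr_self, Finsupp.single_apply]
    by_cases e : j = i
    · simp [e]
    · simp [e, hk j i e]
  obtain ⟨g₁, hg₁⟩ := h.transvection_mem (hne (k 2)) (B.coord (k 3)) (by rw [hco]; rfl)
  obtain ⟨g₂, hg₂⟩ := h.transvection_mem (hne (k 3)) (B.coord (k 2)) (by rw [hco]; rfl)
  obtain ⟨s, hs⟩ : ∃ s, s = B (k 2) := ⟨_, rfl⟩
  obtain ⟨t, ht⟩ : ∃ t, t = B (k 3) := ⟨_, rfl⟩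
  let n := g₁ * g₂
  have hfix : ∀ i : Fin 4, i ≠ 2 → i ≠ 3 → ρ n (B (k i)) = B (k i) := fun i h2 h3 => by
    rw [mul_apply', hg₂, hco, if_neg h2, zero_smul, add_zero, hg₁, hco, if_neg h3, zero_smul, add_zero]
  have hns : ρ n s = t := by
    rw [hs, ht, mul_apply', hg₂, hco, if_pos rfl, one_smul, map_add, hg₁, hg₁, hco, hco,
      if_neg (by decide), if_pos rfl, zero_smul, add_zero, one_smul, add_comm, add_assoc,
      add_self_eq, add_zero]
  have hnt : ρ n t = s + t := by
    rw [hs, ht, mul_apply', hg₂, hco, if_neg (by decide), zero_smul, add_zero, hg₁, hco, if_pos rfl,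
      one_smul, add_comm]
  have hn3 : ρ (n ^ 3) s = s := by
    rw [pow_succ, pow_two, mul_apply', mul_apply', hns, hnt, map_add, hns, hnt, add_left_comm,
      add_self_eq, add_zero]
  obtain ⟨i, m, hm, hnm⟩ :=
    Nat.exists_eq_pow_mul_and_not_dvd (orderOf_pos n).ne' 2 (by decide)
  have hodd : Odd (orderOf (n ^ 2 ^ i)) := by
    rw [orderOf_pow' _ (pow_ne_zero i two_ne_zero), Nat.gcd_eq_right (hnm ▸ dvd_mul_right _ _), hnm,
      Nat.mul_div_cancel_left _ (pow_pos two_pos i)]
    exact Nat.not_even_iff_odd.1 fun he => hm he.two_dvd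
  have h1 := h.oddFix _ hodd (B (k 0)) (B (k 1)) (hne _) (hne _)
    (fun e => hk 0 1 (by decide) (B.injective e))
    (pow_apply_eq ρ (hfix 0 (by decide) (by decide)) _)
    (pow_apply_eq ρ (hfix 1 (by decide) (by decide)) _)
  have hnot : ρ n s ≠ s := by
    rw [hns, hs, ht]
    exact fun e => hk 3 2 (by decide) (B.injective e)
  apply hnot
  obtain ⟨a, b, hab⟩ : ∃ a b : ℕ, 2 ^ i * a = 3 * b + 1 := by
    have h3 : ∀ k : ℕ, (2 ^ k) % 3 = 1 ∨ (2 ^ k) % 3 = 2 := fun k => by
      induction k with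
      | zero => exact Or.inl rfl
      | succ k ih => rw [pow_succ]; omega
    rcases h3 i with e | e
    · exact ⟨1, 2 ^ i / 3, by omega⟩
    · exact ⟨2, (2 * 2 ^ i) / 3, by omega⟩
  have hA : ρ (n ^ (2 ^ i * a)) s = s := by
    rw [pow_mul, map_pow, h1, one_pow]; rfl
  have hB : ρ ((n ^ 3) ^ b) s = s := pow_apply_eq ρ hn3 b
  rw [hab, pow_succ', pow_mul, mul_apply', hB] at hA
  exact hA

/-- In dimension three the group is the full linear group. -/
theorem surjective (h : LinConfig ρ) (h3 : Module.finrank (ZMod 2) V = 3) :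
    Function.Surjective ρ := by
  intro f
  let B := Module.finBasisOfFinrankEq (ZMod 2) V h3
  let B' := B.map f
  obtain ⟨n, hn0, hn1⟩ := h.trans (B 0) (B 1) (f (B 0)) (f (B 1)) (B.ne_zero 0) (B.ne_zero 1)
    (fun e => absurd (B.injective e) (by decide)) (fun e => B.ne_zero 0 (f.map_eq_zero_iff.1 e))
    (fun e => B.ne_zero 1 (f.map_eq_zero_iff.1 e))
    (fun e => absurd (B.injective (f.injective e)) (by decide))
  let χ := B'.coord 2
  have hχz : χ (ρ n (B 2)) = 1 := by
    have key : χ ∘ₗ (ρ n).toLinearMap ≠ 0 := fun e => by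
      have := LinearMap.congr_fun e (ρ n⁻¹ (B' 2))
      simp [χ] at this
    have h01 : ∀ i : Fin 3, i ≠ 2 → χ (B' i) = 0 := fun i hi => by
      simp [χ, hi]
    by_contra hne
    apply key
    refine B.ext fun i => ?_
    show χ (ρ n (B i)) = 0
    fin_cases i
    · show χ (ρ n (B 0)) = 0
      rw [hn0, show f (B 0) = B' 0 by simp [B'], h01 0 (by decide)]
    · show χ (ρ n (B 1)) = 0
      rw [hn1, show f (B 1) = B' 1 by simp [B'], h01 1 (by decide)]
    · exact (by decide : ∀ w : ZMod 2, w ≠ 1 → w = 0) _ hne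
  obtain ⟨c, hc⟩ : ∃ c, c = ρ n (B 2) + f (B 2) := ⟨_, rfl⟩
  have hχc : χ c = 0 := by
    rw [hc, map_add, hχz, show f (B 2) = B' 2 by simp [B']]
    simp only [χ, Module.Basis.coord_apply, Module.Basis.repr_self, Finsupp.single_eq_same]
    decide
  obtain ⟨t, ht⟩ : ∃ t, ∀ v, ρ t v = v + χ v • c := by
    by_cases hc0 : c = 0
    · exact ⟨1, fun v => by simp [hc0]⟩
    · exact h.transvection_mem hc0 χ hχc
  refine ⟨t * n, LinearEquiv.toLinearMap_injective (B.ext fun i => ?_)⟩
  show ρ (t * n) (B i) = f (B i)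
  have h01 : ∀ i : Fin 3, i ≠ 2 → χ (f (B i)) = 0 := fun i hi => by
    rw [show f (B i) = B' i by simp [B']]
    simp [χ, hi]
  fin_cases i
  · show ρ (t * n) (B 0) = f (B 0)
    rw [mul_apply', hn0, ht, h01 0 (by decide), zero_smul, add_zero]
  · show ρ (t * n) (B 1) = f (B 1)
    rw [mul_apply', hn1, ht, h01 1 (by decide), zero_smul, add_zero]
  · show ρ (t * n) (B 2) = f (B 2)
    rw [mul_apply', ht, hχz, one_smul, hc, ← add_assoc, add_self_eq, zero_add]

end LinConfig

end CfsgLib.BenderWorld.InvolInZ
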