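import Cfsg.Agent.BenderWorld.InvolInZ.Square
import Cfsg.Agent.Solvable.Frattini
import Cfsg.Agent.S3776

/-!
# The configuration with eight does not exist

The kernel `K` is not abelian, so by Higman's theorem on Suzuki 2-groups (`S3776`) its centre is
`ι` and `K / Z(K)` with the squaring map is a `SqMap`.
-/

set_option autoImplicit false

namespace CfsgLib.BenderWorld.InvolInZ

universe u

open Subgroup Matrix
open scoped commutatorElement

namespace Reduced

open Eight

variable {G : Type u} [Group G] [Finite G] {ι : Vec → G} {K : Subgroup G}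

theorem false (h : Reduced ι K) : False := by
  classical
  obtain ⟨x₀, hx₀, y₀, hy₀, hxy₀⟩ := h.not_comm
  haveI : K.Normal := ⟨fun x hx g => h.normal g x hx⟩
  have hna : ¬ IsMulCommutative K := fun hcm =>
    hxy₀ (congrArg Subtype.val (hcm.is_comm.comm (⟨x₀, hx₀⟩ : K) ⟨y₀, hy₀⟩))
  obtain ⟨gE, hgE⟩ := h.full matE (matE ^ 6) (by decide)
  have hmem1 : ∀ v : Vec, (⟨ι v, h.mem v⟩ : K) = 1 → v = 0 := fun v hv =>
    h.inj ((congrArg Subtype.val hv).trans h.map_zero.symm)
  have hsq' : ∀ v : Vec, (⟨ι v, h.mem v⟩ : K) ^ 2 = 1 := fun v =>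
    Subtype.ext (by rw [pow_two]; exact h.sq v)
  obtain ⟨hder, hfr, hcen⟩ := Cfsg.Agent.S3776.result h.isPGroup hna
    ⟨⟨ι ![1, 0, 0], h.mem _⟩, ⟨ι ![0, 1, 0], h.mem _⟩,
      fun e => absurd (h.inj (congrArg Subtype.val e)) (by decide),
      fun e => e0_ne (hmem1 _ e), hsq' _,
      fun e => absurd (hmem1 _ e) (by decide), hsq' _⟩
    ⟨(zpowers gE).map (MulAut.conjNormal : G →* MulAut K),
      Group.isSolvable_of_surjective
        (MonoidHom.subgroupMap_surjective (MulAut.conjNormal : G →* MulAut K) (zpowers gE)),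
      fun x y hx hx2 hy hy2 => by
        obtain ⟨v, hv⟩ := h.invol x (by rw [← pow_two]; exact congrArg Subtype.val hx2)
        obtain ⟨w, hw⟩ := h.invol y (by rw [← pow_two]; exact congrArg Subtype.val hy2)
        obtain ⟨i, hi⟩ := matE_transitive v fun e => hx (Subtype.ext (by
          rw [← hv, e, h.map_zero]; rfl))
        obtain ⟨j, hj⟩ := matE_transitive w fun e => hy (Subtype.ext (by
          rw [← hw, e, h.map_zero]; rfl))
        refine ⟨MulAut.conjNormal (gE ^ ((j : ℕ) + (7 - (i : ℕ)))),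
          mem_map_of_mem _ ((zpowers gE).pow_mem (mem_zpowers gE) _), Subtype.ext ?_⟩
        rw [MulAut.conjNormal_apply, ← hv, Acts.pow hgE, ← hi, mulVec_mulVec, ← pow_add, add_assoc,
          Nat.sub_add_cancel (le_of_lt i.2), pow_add, matE_pow, mul_one, hj, hw]⟩
  -- squares and commutators
  have hrange : ∀ x : K, x ∈ center K → ∃ v, ι v = (x : G) := fun x hx => h.invol _ (by
    rw [← pow_two]; exact congrArg Subtype.val ((hcen x).1 hx))
  have hιc : ∀ v, (⟨ι v, h.mem v⟩ : K) ∈ center K := fun v => (hcen _).2 (hsq' v)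
  have hsqc : ∀ x : K, x * x ∈ center K := fun x => by
    rw [← pow_two, ← hfr]
    exact CfsgLib.Solvable.pow_mem_frattini h.isPGroup x
  let cm : K → K → K := fun x y => x⁻¹ * y * x * y⁻¹
  have hcmc : ∀ x y, cm x y ∈ center K := fun x y => by
    rw [← hfr, ← hder]
    have : cm x y = ⁅x⁻¹, y⁆ := by simp [cm, commutatorElement_def]
    rw [this]
    exact Subgroup.commutator_mem_commutator (mem_top _) (mem_top _)
  letI : CommGroup (K ⧸ center K) :=
    { (inferInstance : Group (K ⧸ center K)) with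
      mul_comm := fun a b => by
        obtain ⟨x, rfl⟩ := QuotientGroup.mk_surjective a
        obtain ⟨y, rfl⟩ := QuotientGroup.mk_surjective b
        rw [← QuotientGroup.mk_mul, ← QuotientGroup.mk_mul, QuotientGroup.eq]
        have hc' : y⁻¹ * cm x y * y⁻¹⁻¹ ∈ center K :=
          (inferInstance : (center K).Normal).conj_mem _ (hcmc x y) y⁻¹
        have e' : (x * y)⁻¹ * (y * x) = y⁻¹ * cm x y * y⁻¹⁻¹ := by simp only [cm]; group
        rw [e']
        exact hc' }
  -- the squaring map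
  choose qK hqK using fun x : K => hrange _ (hsqc x)
  have hqwd : ∀ x y : K, x⁻¹ * y ∈ center K → qK x = qK y := fun x y hxy => h.inj (by
    rw [hqK, hqK]
    obtain ⟨z, hz, rfl⟩ : ∃ z ∈ center K, y = x * z := ⟨_, hxy, by rw [mul_inv_cancel_left]⟩
    refine congrArg Subtype.val ?_
    have hz2 : z * z = 1 := by rw [← pow_two]; exact (hcen z).1 hz
    calc x * x = x * x * (z * z) := by rw [hz2, mul_one]
      _ = x * z * (x * z) := by
        rw [mul_assoc x z, ← mul_assoc z x z, ← mem_center_iff.1 hz x]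
        simp only [mul_assoc])
  let q : K ⧸ center K → Vec := Quotient.lift qK fun x y hxy =>
    hqwd x y (QuotientGroup.leftRel_apply.1 hxy)
  have hq : ∀ x : K, q x = qK x := fun x => rfl
  let B : K ⧸ center K → K ⧸ center K → Vec := fun t t' => q (t * t') + q t + q t'
  have hqmul : ∀ t t', q (t * t') = q t + q t' + B t t' := fun t t' => by
    simp only [B]
    rw [show q t + q t' + (q (t * t') + q t + q t') = q (t * t') + ((q t + q t) + (q t' + q t')) by abel,
      ZModModule.add_self, ZModModule.add_self, add_zero, add_zero]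
  have hB : ∀ x y : K, ι (B x y) = (cm x y : G) := fun x y => by
    have e : ι (qK x) * (cm x y : G) * ι (qK y) = ι (qK (x * y)) := by
      rw [hqK, hqK, hqK, ← Subgroup.coe_mul, ← Subgroup.coe_mul]
      exact congrArg Subtype.val (by simp [cm, mul_assoc])
    show ι (qK (x * y) + qK x + qK y) = _
    rw [h.add, h.add, ← e]
    have c1 : Commute (cm x y : G) (ι (qK y)) := (h.fix _ (cm x y).2 _)
    have c2 : Commute (cm x y : G) (ι (qK x)) := (h.fix _ (cm x y).2 _)
    calc ι (qK x) * (cm x y : G) * ι (qK y) * ι (qK x) * ι (qK y)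
        = ι (qK x) * (cm x y : G) * (ι (qK y) * ι (qK x)) * ι (qK y) := by simp only [mul_assoc]
      _ = (cm x y : G) * ((ι (qK x) * ι (qK x)) * (ι (qK y) * ι (qK y))) := by
          rw [(h.comm (qK y) (qK x)).eq, ← c2.eq]; simp only [mul_assoc]
      _ = _ := by rw [h.sq, h.sq, mul_one, mul_one]
  -- the action
  have hGL : ∀ M : GLThree, ∃ g, Acts ι g (M : Mat) := fun M =>
    h.full _ ((M⁻¹ : GLThree) : Mat) (by rw [← Units.val_mul, mul_inv_cancel, Units.val_one])
  choose gM hgM using hGL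
  let Ψ : G → (K ⧸ center K ≃* K ⧸ center K) := fun g =>
    QuotientGroup.congr _ _ (MulAut.conjNormal g) (by
      exact Subgroup.characteristic_iff_map_eq.1 inferInstance (MulAut.conjNormal g))
  have hΨ : ∀ g (x : K), Ψ g x = ((MulAut.conjNormal g x : K) : K ⧸ center K) := fun g x => rfl
  have hΨmul : ∀ g g' t, Ψ (g * g') t = Ψ g (Ψ g' t) := fun g g' t => by
    obtain ⟨x, rfl⟩ := QuotientGroup.mk_surjective t
    rw [hΨ, hΨ, hΨ, map_mul]; rfl
  have hΨC : ∀ c, (∀ v, Commute c (ι v)) → ∀ t, Ψ c t = t := fun c hc t => by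
    obtain ⟨x, rfl⟩ := QuotientGroup.mk_surjective t
    obtain ⟨k, hk, hk'⟩ := h.inner c hc
    rw [hΨ, show MulAut.conjNormal c x = (⟨k, hk⟩ : K) * x * (⟨k, hk⟩ : K)⁻¹ from
      Subtype.ext (by rw [MulAut.conjNormal_apply]; exact hk' x x.2)]
    rw [QuotientGroup.mk_mul, QuotientGroup.mk_mul, QuotientGroup.mk_inv, mul_comm, ← mul_assoc,
      inv_mul_cancel, one_mul]
  have hΨwd : ∀ g g' (M : Mat) , Acts ι g M → Acts ι g' M → ∀ t, Ψ g t = Ψ g' t := fun g g' M h1 h2 t => by
    have hc : ∀ v, Commute (g'⁻¹ * g) (ι v) := fun v => by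
      have e := (h1 v).trans (h2 v).symm
      show g'⁻¹ * g * ι v = ι v * (g'⁻¹ * g)
      calc g'⁻¹ * g * ι v = g'⁻¹ * (g * ι v * g⁻¹) * g := by group
        _ = g'⁻¹ * (g' * ι v * g'⁻¹) * g := by rw [e]
        _ = ι v * (g'⁻¹ * g) := by group
    conv_lhs => rw [← mul_inv_cancel_left g' g]
    rw [hΨmul, hΨC _ hc]
  let ρ : GLThree →* MulAut (K ⧸ center K) :=
    { toFun := fun M => Ψ (gM M)
      map_one' := MulEquiv.ext fun t => hΨC _ ((hgM 1).commute rfl) t
      map_mul' := fun M N => MulEquiv.ext fun t =>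
        ((hΨwd _ _ _ (hgM (M * N)) ((hgM M).mul (hgM N)) t).trans (hΨmul _ _ t)) }
  have hsqm : SqMap (K ⧸ center K) ρ q B := by
    refine ⟨fun t => ?_, fun t => ?_, fun M t => ?_, hqmul, fun t₁ t₂ t' => ?_, fun t ht => ?_, ?_⟩
    · obtain ⟨x, rfl⟩ := QuotientGroup.mk_surjective t
      rw [← QuotientGroup.mk_mul, QuotientGroup.eq_one_iff]
      exact hsqc x
    · obtain ⟨x, rfl⟩ := QuotientGroup.mk_surjective t
      rw [hq, QuotientGroup.eq_one_iff, hcen, pow_two]
      constructor
      · intro e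
        exact Subtype.ext (show ((x * x : K) : G) = 1 by rw [← hqK, e, h.map_zero])
      · intro e
        exact h.inj (by rw [hqK, e, h.map_zero]; rfl)
    · obtain ⟨x, rfl⟩ := QuotientGroup.mk_surjective t
      show q (Ψ (gM M) x) = _
      rw [hΨ, hq, hq]
      refine h.inj ?_
      rw [hqK, ← hgM M (qK x), hqK, ← map_mul, MulAut.conjNormal_apply]
    · obtain ⟨x, rfl⟩ := QuotientGroup.mk_surjective t₁
      obtain ⟨y, rfl⟩ := QuotientGroup.mk_surjective t₂
      obtain ⟨z, rfl⟩ := QuotientGroup.mk_surjective t'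
      rw [← QuotientGroup.mk_mul]
      refine h.inj ?_
      rw [h.add (B x z) (B y z), hB, hB, hB, ← Subgroup.coe_mul]
      refine congrArg Subtype.val ?_
      have hc1 := mem_center_iff.1 (hcmc x z) y⁻¹
      calc cm (x * y) z = y⁻¹ * cm x z * (z * y * z⁻¹) := by simp [cm, mul_assoc]
        _ = cm x z * y⁻¹ * (z * y * z⁻¹) := by rw [hc1]
        _ = cm x z * cm y z := by simp [cm, mul_assoc]
    · obtain ⟨x, rfl⟩ := QuotientGroup.mk_surjective t
      rw [ne_eq, QuotientGroup.eq_one_iff] at ht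
      rw [mem_center_iff] at ht
      push Not at ht
      obtain ⟨y, hy⟩ := ht
      refine ⟨y, fun e => hy ?_⟩
      have h1 := hB x y
      rw [e, h.map_zero] at h1
      have h2 : cm x y = 1 := Subtype.ext h1.symm
      calc y * x = x * (x⁻¹ * y * x * y⁻¹) * y := by simp [mul_assoc]
        _ = x * y := by rw [show x⁻¹ * y * x * y⁻¹ = 1 from h2, mul_one]
    · refine ⟨((⟨x₀, hx₀⟩ : K) : K ⧸ center K), fun e => hxy₀ ?_⟩
      rw [QuotientGroup.eq_one_iff, mem_center_iff] at e
      exact (congrArg Subtype.val (e ⟨y₀, hy₀⟩)).symm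
  exact hsqm.false

end Reduced

theorem Eight.false {G : Type u} [Group G] [Finite G] {ι : Vec → G} (h : Eight ι) : False := by
  obtain ⟨N, ι', K, hK⟩ := h.exists_reduced
  exact hK.false

end CfsgLib.BenderWorld.InvolInZ
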