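import Cfsg.Agent.BenderWorld.InvolInZ.Config
import Cfsg.Agent.BenderWorld.InvolInZ.Linear
import Cfsg.Agent.BenderWorld.InvolInZ.NonAbelian

/-!
# No group is two-transitive on a set of involutions forming, with `1`, the set of all of them

If all involutions of a finite group lie in an elementary abelian subgroup `U` of order at least
four, conjugation is not transitive on ordered pairs of distinct involutions
(`no_two_transitive`).  See `docs/bender_gap1_closed_helper72.md`.
-/

set_option autoImplicit false

namespace CfsgLib.BenderWorld.InvolInZ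

universe u

open Subgroup

variable {G : Type u} [Group G] [Finite G] {U : Subgroup G}

/-- The case `|U| = 4`: a Sylow 3-subgroup has no fixed involution and a normalizer of even order. -/
theorem four_false (h : Config U) (h4 : Nat.card U = 4) : False := by
  classical
  letI := Fintype.ofFinite G
  haveI := h.normal
  haveI : Fact (Nat.Prime 3) := ⟨Nat.prime_three⟩
  obtain ⟨a, b, ha, hb, ha1, hb1, hab⟩ : ∃ a b, a ∈ U ∧ b ∈ U ∧ a ≠ 1 ∧ b ≠ 1 ∧ a ≠ b := by
    have h4' : 4 = (Finset.univ : Finset U).card := by
      rw [Finset.card_univ, ← Nat.card_eq_fintype_card, h4]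
    obtain ⟨a, -, ha⟩ := Finset.exists_mem_notMem_of_card_lt_card (s := ({1} : Finset U))
      (t := Finset.univ) (by rw [Finset.card_singleton, ← h4']; omega)
    simp only [Finset.mem_singleton] at ha
    obtain ⟨b, -, hb⟩ := Finset.exists_mem_notMem_of_card_lt_card (s := ({1, a} : Finset U))
      (t := Finset.univ) (by have := Finset.card_le_two (a := (1 : U)) (b := a); omega)
    simp only [Finset.mem_insert, Finset.mem_singleton, not_or] at hb
    exact ⟨a, b, a.2, b.2, fun e => ha (Subtype.ext e), fun e => hb.1 (Subtype.ext e),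
      fun e => hb.2 (Subtype.ext e.symm)⟩
  have hab1 : a * b ≠ 1 := fun e =>
    hab ((eq_inv_of_mul_eq_one_left e).trans (h.inv_eq hb))
  have habab : a * b ∈ U := U.mul_mem ha hb
  have habne : b ≠ a * b := fun e => ha1 (right_eq_mul.1 e)
  have hall : ∀ x ∈ U, x = 1 ∨ x = a ∨ x = b ∨ x = a * b := fun x hx => by
    by_contra hx'
    simp only [not_or] at hx'
    have : ({1, a, b, a * b, x} : Finset G).card ≤ Nat.card U := by
      rw [← SetLike.coe_sort_coe, Nat.card_coe_set_eq]
      rw [← Set.ncard_coe_finset]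
      refine Set.ncard_le_ncard ?_ (Set.toFinite _)
      intro z hz
      simp only [Finset.coe_insert, Finset.coe_singleton, Set.mem_insert_iff, Set.mem_singleton_iff] at hz
      rcases hz with rfl | rfl | rfl | rfl | rfl
      exacts [U.one_mem, ha, hb, habab, hx]
    have hne : a ≠ a * b := fun e => hb1 (left_eq_mul.1 e)
    rw [h4, Finset.card_insert_of_notMem (by simp [ha1.symm, hb1.symm, hab1.symm, Ne.symm hx'.1]),
      Finset.card_insert_of_notMem (by simp [hab, hne, Ne.symm hx'.2.1]),
      Finset.card_insert_of_notMem (by simp [habne, Ne.symm hx'.2.2.1]),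
      Finset.card_insert_of_notMem (by simp [Ne.symm hx'.2.2.2]), Finset.card_singleton] at this
    omega
  obtain ⟨n, hn1, hn2⟩ := h.trans a ha b hb b hb (a * b) habab ha1 hb1 hab hb1 hab1 habne
  have hnab : n * (a * b) * n⁻¹ = a := by
    calc n * (a * b) * n⁻¹ = n * a * n⁻¹ * (n * b * n⁻¹) := by group
      _ = b * (a * b) := by rw [hn1, hn2]
      _ = a * (b * b) := by rw [← mul_assoc, (h.comm hb ha).eq, mul_assoc]
      _ = a := by rw [h.elem b hb, mul_one]
  have hn3 : ∀ x ∈ U, Commute (n ^ 3) x := fun x hx => by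
    have e : n ^ 3 * x * (n ^ 3)⁻¹ = x := by
      have : n ^ 3 * x * (n ^ 3)⁻¹ = n * (n * (n * x * n⁻¹) * n⁻¹) * n⁻¹ := by
        simp [pow_succ, mul_assoc]
      rw [this]
      rcases hall x hx with rfl | rfl | rfl | rfl <;> simp only [hn1, hn2, hnab, mul_one, mul_inv_cancel]
    exact mul_inv_eq_iff_eq_mul.1 e
  -- a 3-element without fixed involutions
  obtain ⟨i, m, hm, him⟩ :=
    Nat.exists_eq_pow_mul_and_not_dvd (orderOf_pos n).ne' 3 (by decide)
  have hr3 : IsPGroup 3 (zpowers (n ^ m)) := by
    refine IsPGroup.of_card (n := i) ?_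
    have hm0 : m ≠ 0 := fun e => hm (e ▸ dvd_zero 3)
    rw [Nat.card_zpowers, orderOf_pow' _ hm0, Nat.gcd_eq_right (him ▸ dvd_mul_left m _), him,
      Nat.mul_div_cancel _ (Nat.pos_of_ne_zero hm0)]
  obtain ⟨P, hP⟩ := hr3.exists_le_sylow
  have hPU : ∀ x ∈ (P : Subgroup G), x ∈ U → x = 1 := fun x hx hxU =>
    h.inter_eq_one_of_odd (odd_orderOf_of_isPGroup (by decide) P.2 hx) hxU
  have hfix : ∀ x ∈ U, (∀ y ∈ (P : Subgroup G), Commute x y) → x = 1 := by
    intro x hx hc
    have h1 : Commute (n ^ m) x := (hc _ (hP (mem_zpowers _))).symm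
    have h2 := hn3 x hx
    have hbez := Nat.gcd_eq_gcd_ab m 3
    rw [(Nat.prime_three.coprime_iff_not_dvd.2 hm).symm.gcd_eq_one] at hbez
    have hn : Commute n x := by
      have : n = (n ^ m) ^ (Nat.gcdA m 3) * (n ^ 3) ^ (Nat.gcdB m 3) := by
        rw [← zpow_natCast n m, ← zpow_natCast n 3, ← zpow_mul, ← zpow_mul, ← zpow_add, ← hbez,
          Nat.cast_one, zpow_one]
      rw [this]
      exact (h1.zpow_left _).mul_left (h2.zpow_left _)
    have hx' : n * x * n⁻¹ = x := by rw [hn.eq, mul_inv_cancel_right]
    rcases hall x hx with rfl | rfl | rfl | rfl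
    · rfl
    · exact absurd (hn1.symm.trans hx') hab.symm
    · exact absurd (hn2.symm.trans hx') habne.symm
    · exact absurd (hnab.symm.trans hx') fun e => hb1 (left_eq_mul.1 e)
  -- parity of the action
  let φ : G →* Equiv.Perm U := (MulAction.toPermHom (MulAut U) U).comp MulAut.conjNormal
  let χ : G →* ℤˣ := Equiv.Perm.sign.comp φ
  obtain ⟨w, hw1, hw2⟩ := h.trans a ha b hb b hb a ha ha1 hb1 hab hb1 ha1 hab.symm
  have hwab : w * (a * b) * w⁻¹ = a * b := by
    calc w * (a * b) * w⁻¹ = w * a * w⁻¹ * (w * b * w⁻¹) := by group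
      _ = a * b := by rw [hw1, hw2, (h.comm hb ha).eq]
  have hw : φ w = Equiv.swap ⟨a, ha⟩ ⟨b, hb⟩ := by
    refine Equiv.ext fun x => Subtype.ext ?_
    show (w * (x : G) * w⁻¹) = _
    rcases hall x x.2 with e | e | e | e
    · rw [Equiv.swap_apply_of_ne_of_ne (fun e' => ha1 (by rw [← e, e'])) (fun e' => hb1 (by rw [← e, e'])),
        e, mul_one, mul_inv_cancel]
    · rw [show x = ⟨a, ha⟩ from Subtype.ext e, Equiv.swap_apply_left, hw1]
    · rw [show x = ⟨b, hb⟩ from Subtype.ext e, Equiv.swap_apply_right, hw2]
    · rw [Equiv.swap_apply_of_ne_of_ne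
        (fun e' => hb1 (left_eq_mul.1 ((congrArg Subtype.val e').symm.trans e)))
        (fun e' => habne ((congrArg Subtype.val e').symm.trans e)), e, hwab]
  have hχw : χ w = -1 := by
    show Equiv.Perm.sign (φ w) = -1
    rw [hw, Equiv.Perm.sign_swap]
    exact fun e => hab (congrArg Subtype.val e)
  have hodd : ∀ y : G, Odd (orderOf y) → χ y = 1 := fun y hy => by
    rcases Int.units_eq_one_or (χ y) with e | e
    · exact e
    · have := map_pow χ y (orderOf y)
      rw [pow_orderOf_eq_one, map_one, e, hy.neg_one_pow] at this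
      exact absurd this (by decide)
  let A := χ.ker
  have hPA : (P : Subgroup G) ≤ A := fun y hy =>
    MonoidHom.mem_ker.2 (hodd y (odd_orderOf_of_isPGroup (by decide) P.2 hy))
  obtain ⟨y, hy, z, hz, hyz⟩ : ∃ y ∈ normalizer ((P : Subgroup G) : Set G), ∃ z ∈ A, y * z = w := by
    have htop := Sylow.normalizer_sup_eq_top' P hPA
    have hmem : w ∈ normalizer ((P : Set G)) ⊔ A := by rw [htop]; trivial
    exact mem_sup_of_normal_right.1 hmem
  have hχy : χ y = -1 := by
    rw [← hχw, ← hyz, map_mul, MonoidHom.mem_ker.1 hz, mul_one]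
  have hev : 2 ∣ orderOf y := by
    by_contra ho
    rw [← even_iff_two_dvd, Nat.not_even_iff_odd] at ho
    rw [hodd y ho] at hχy
    exact absurd hχy (by decide)
  obtain ⟨t, htdef⟩ : ∃ t, t = y ^ (orderOf y / 2) := ⟨_, rfl⟩
  have ht : orderOf t = 2 := by rw [htdef, orderOf_pow_orderOf_div (orderOf_pos y).ne' hev]
  have htU : t ∈ U := h.invol t (by rw [← pow_two, ← ht, pow_orderOf_eq_one])
  have htN : t ∈ normalizer ((P : Subgroup G) : Set G) := htdef ▸ Subgroup.pow_mem _ hy _
  have := hfix t htU fun x hx => h.commute_of_normalizes hPU htU htN hx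
  rw [this, orderOf_one] at ht
  omega

/-- All involutions in an elementary abelian group of order at least four, and transitivity on
ordered pairs of them, are contradictory. -/
theorem no_two_transitive (h : Config U) : False := by
  suffices H : ∀ (n : ℕ) (G : Type u) [Group G] [Finite G] (U : Subgroup G),
      Nat.card U = n → Config U → False from H _ G U rfl h
  intro n
  induction n using Nat.strong_induction_on with
  | _ n ih =>
    intro G _ _ U hn h
    classical
    by_cases hodd : OddFix U
    swap
    · obtain ⟨N, U', hU', hlt⟩ := exists_smaller h hodd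
      exact ih _ (hn ▸ hlt) N U' rfl hU'
    haveI := h.normal
    haveI : IsMulCommutative U := ⟨⟨fun x y => Subtype.ext (h.comm x.2 y.2)⟩⟩
    letI : CommGroup U := { (inferInstance : Group U) with mul_comm := fun x y => Subtype.ext (h.comm x.2 y.2) }
    haveI : Module (ZMod 2) (Additive U) := AddCommGroup.zmodModule fun z =>
      Additive.toMul.injective (by
        rw [toMul_nsmul, pow_two]; exact Subtype.ext (h.elem _ z.toMul.2))
    let ρ : G →* (Additive U ≃ₗ[ZMod 2] Additive U) :=
      { toFun := fun g =>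
          { ((MonoidHom.toAdditive (MulAut.conjNormal g : MulAut U).toMonoidHom).toZModLinearMap 2) with
            invFun := fun z => Additive.ofMul ((MulAut.conjNormal g : MulAut U).symm z.toMul)
            left_inv := fun z => (MulAut.conjNormal g : MulAut U).symm_apply_apply z.toMul
            right_inv := fun z => (MulAut.conjNormal g : MulAut U).apply_symm_apply z.toMul }
        map_one' := LinearEquiv.ext fun z => by
          show Additive.ofMul ((MulAut.conjNormal (1 : G) : MulAut U) z.toMul) = z
          rw [map_one]; rfl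
        map_mul' := fun g g' => LinearEquiv.ext fun z => by
          show Additive.ofMul ((MulAut.conjNormal (g * g') : MulAut U) z.toMul) = _
          rw [map_mul]; rfl }
    have hρ : ∀ g (z : Additive U), (((ρ g z).toMul : U) : G) = g * (z.toMul : G) * g⁻¹ :=
      fun g z => MulAut.conjNormal_apply g z.toMul
    have hval : ∀ {z w : Additive U}, ((z.toMul : U) : G) = ((w.toMul : U) : G) → z = w :=
      fun {z w} e => Additive.toMul.injective (Subtype.ext e)
    have hlin : LinConfig ρ := by
      refine ⟨fun u₁ u₂ v₁ v₂ a b c a' b' c' => ?_, fun g hg u₁ u₂ a b c h1 h2 => ?_⟩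
      · obtain ⟨g, hg1, hg2⟩ := h.trans _ u₁.toMul.2 _ u₂.toMul.2 _ v₁.toMul.2 _ v₂.toMul.2
          (fun e => a (hval (w := 0) e)) (fun e => b (hval (w := 0) e)) (fun e => c (hval e))
          (fun e => a' (hval (w := 0) e)) (fun e => b' (hval (w := 0) e)) (fun e => c' (hval e))
        exact ⟨g, hval ((hρ g u₁).trans hg1), hval ((hρ g u₂).trans hg2)⟩
      · have hc : ∀ {u : Additive U}, ρ g u = u → Commute g (u.toMul : G) := fun {u} e => by
          have e' := hρ g u
          rw [e] at e'
          exact mul_inv_eq_iff_eq_mul.1 e'.symm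
        have hall := hodd g hg _ u₁.toMul.2 _ u₂.toMul.2 (fun e => a (hval (w := 0) e))
          (fun e => b (hval (w := 0) e)) (fun e => c (hval e)) (hc h1) (hc h2)
        refine LinearEquiv.ext fun z => hval ((hρ g z).trans ?_)
        rw [(hall _ z.toMul.2).eq, mul_inv_cancel_right]; rfl
    have hle := hlin.finrank_le
    have hcard : Nat.card U = 2 ^ Module.finrank (ZMod 2) (Additive U) := by
      have := Module.natCard_eq_pow_finrank (K := ZMod 2) (V := Additive U)
      rw [Nat.card_zmod] at this
      exact this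
    have h4 := h.card
    rcases (show Module.finrank (ZMod 2) (Additive U) = 2 ∨ Module.finrank (ZMod 2) (Additive U) = 3 by
      rcases Nat.lt_or_ge (Module.finrank (ZMod 2) (Additive U)) 2 with hlt | hge
      · have := Nat.pow_le_pow_right (n := 2) two_pos (Nat.lt_succ_iff.1 hlt)
        omega
      · omega) with h2 | h3
    · exact four_false h (by rw [hcard, h2]; rfl)
    let e : Additive U ≃ₗ[ZMod 2] Vec := (Module.finBasisOfFinrankEq (ZMod 2) (Additive U) h3).equivFun
    let ι : Vec → G := fun v => (((e.symm v).toMul : U) : G)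
    have h8 : Eight ι := by
      refine ⟨fun v w hvw => e.symm.injective (hval hvw), fun v w => ?_, fun x hx => ?_, fun M M' hM => ?_⟩
      · simp only [ι, map_add, toMul_add, Subgroup.coe_mul]
      · exact ⟨e (Additive.ofMul ⟨x, h.invol x hx⟩), by simp [ι]⟩
      · obtain ⟨g, hg⟩ := hlin.surjective h3
          (e.trans ((Matrix.toLin'OfInv (mul_eq_one_comm.1 hM) hM).trans e.symm))
        refine ⟨g, fun v => ?_⟩
        show g * (((e.symm v).toMul : U) : G) * g⁻¹ = _
        rw [← hρ, hg]
        simp [ι, Matrix.toLin'OfInv]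
    exact h8.false

end CfsgLib.BenderWorld.InvolInZ
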