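import Cfsg.Agent.BenderWorld.InvolInZ.Eight

/-!
# The configuration with eight: `K` is not abelian

If it is, it is homocyclic of rank three, and a lift `y` of an element `x` of order four of
`GL(3,2)` acts on it with determinant one and fourth power one, so its characteristic polynomial is
`(t - 1)(t² + 1)`; then every fixed point of `y` is a norm for `y²`, which gives an involution
outside `ι`.
-/

set_option autoImplicit false

namespace CfsgLib.BenderWorld.InvolInZ

universe u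

open Subgroup Matrix

variable {G : Type u} [Group G] {ι : Vec → G}

namespace Eight

/-- `g` acts as the matrix `M`. -/
def Acts (ι : Vec → G) (g : G) (M : Matrix (Fin 3) (Fin 3) (ZMod 2)) : Prop :=
  ∀ v, g * ι v * g⁻¹ = ι (M.mulVec v)

theorem Acts.mul {g g' : G} {M M' : Matrix (Fin 3) (Fin 3) (ZMod 2)} (h1 : Acts ι g M)
    (h2 : Acts ι g' M') : Acts ι (g * g') (M * M') := fun v => by
  calc g * g' * ι v * (g * g')⁻¹ = g * (g' * ι v * g'⁻¹) * g⁻¹ := by group
    _ = _ := by rw [h2, h1, mulVec_mulVec]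

theorem Acts.pow {g : G} {M : Matrix (Fin 3) (Fin 3) (ZMod 2)} (h1 : Acts ι g M) (n : ℕ) :
    Acts ι (g ^ n) (M ^ n) := by
  induction n with
  | zero => intro v; simp
  | succ n ih => rw [pow_succ, pow_succ]; exact ih.mul h1

theorem Acts.inv {g : G} {M M' : Matrix (Fin 3) (Fin 3) (ZMod 2)} (h1 : Acts ι g M)
    (hM : M * M' = 1) : Acts ι g⁻¹ M' := fun v => by
  have e := h1 (M'.mulVec v)
  rw [mulVec_mulVec, hM, one_mulVec] at e
  rw [← e]; group

theorem Acts.commute {g : G} {M : Matrix (Fin 3) (Fin 3) (ZMod 2)} (h1 : Acts ι g M) (hM : M = 1)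
    (v : Vec) : Commute g (ι v) := by
  have e := h1 v
  rw [hM, one_mulVec] at e
  exact mul_inv_eq_iff_eq_mul.1 e

end Eight

/-- An element of order four of `GL(3,2)`. -/
def matX : Matrix (Fin 3) (Fin 3) (ZMod 2) := !![0, 0, 1; 1, 0, 1; 0, 1, 1]

theorem vec_cases : ∀ x : ZMod 2, x = 0 ∨ x = 1 := by decide

theorem e0_ne : (![1, 0, 0] : Vec) ≠ 0 := by decide

theorem e_zero : (![1, 0, 0] : Vec) = Pi.single 0 1 := by decide

/-- An element of order seven of `GL(3,2)`. -/
def matE : Matrix (Fin 3) (Fin 3) (ZMod 2) := !![0, 0, 1; 1, 0, 1; 0, 1, 0]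

theorem matE_pow : matE ^ 7 = 1 := by decide

theorem matE_transitive : ∀ v : Vec, v ≠ 0 → ∃ i : Fin 7, (matE ^ (i : ℕ)).mulVec ![1, 0, 0] = v := by
  decide

namespace Reduced

open Eight

variable {K : Subgroup G}

/-- A 2-element acting as `matX`. -/
theorem exists_actsX [Finite G] (h : Reduced ι K) :
    ∃ y : G, Acts ι y matX ∧ ∃ n : ℕ, y ^ 2 ^ n = 1 := by
  obtain ⟨g, hg⟩ := h.full matX (matX ^ 3) (by decide)
  obtain ⟨i, m, hm, him⟩ :=
    Nat.exists_eq_pow_mul_and_not_dvd (orderOf_pos g).ne' 2 (by decide)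
  refine ⟨g ^ (m * m), ?_, i, ?_⟩
  · have e : matX ^ (m * m) = matX := by
      have h4 : (m * m) % 4 = 1 := by
        have h2 : m % 4 = 1 ∨ m % 4 = 3 := by omega
        rcases h2 with e | e <;> simp [Nat.mul_mod, e]
      rw [← Nat.div_add_mod (m * m) 4, h4, pow_add, pow_mul,
        show matX ^ 4 = 1 by decide, one_pow, one_mul, pow_one]
    have := Acts.pow hg (m * m)
    rwa [e] at this
  · rw [← pow_mul, show m * m * 2 ^ i = orderOf g * m by rw [him]; ring, pow_mul,
      pow_orderOf_eq_one, one_pow]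

theorem not_comm [Finite G] (h : Reduced ι K) : ∃ x ∈ K, ∃ y ∈ K, x * y ≠ y * x := by
  classical
  by_contra hc
  push Not at hc
  letI : CommGroup K :=
    { (inferInstance : Group K) with mul_comm := fun a b => Subtype.ext (hc a a.2 b b.2) }
  -- the exponent
  have hexp : ∃ a, ∀ z : K, z ^ 2 ^ a = 1 := by
    obtain ⟨a, ha⟩ := IsPGroup.iff_card.1 h.isPGroup
    exact ⟨a, fun z => ha ▸ pow_card_eq_one'⟩
  obtain ⟨a, ha, hamin⟩ : ∃ a, (∀ z : K, z ^ 2 ^ a = 1) ∧ ∀ m < a, ¬ ∀ z : K, z ^ 2 ^ m = 1 :=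
    ⟨Nat.find hexp, Nat.find_spec hexp, fun m hm => Nat.find_min hexp hm⟩
  obtain ⟨b, hb⟩ : ∃ b, a = b + 1 := by
    refine Nat.exists_eq_succ_of_ne_zero fun e => ?_
    have := ha ⟨ι ![1, 0, 0], h.mem _⟩
    rw [e, pow_zero, pow_one] at this
    have e1 : ι ![1, 0, 0] = ι 0 := by
      rw [h.map_zero]; exact congrArg Subtype.val this
    exact absurd (h.inj e1) e0_ne
  -- conjugation on `K`
  let cj : G → (Additive K →+ Additive K) := fun g =>
    { toFun := fun z => Additive.ofMul ⟨g * (z.toMul : G) * g⁻¹, h.normal g _ z.toMul.2⟩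
      map_zero' := Additive.toMul.injective (Subtype.ext (by simp))
      map_add' := fun z w => Additive.toMul.injective (Subtype.ext (by simp [mul_assoc])) }
  have hcjC : ∀ c : G, (∀ v, Commute c (ι v)) → ∀ z, cj c z = z := fun c hc' z => by
    obtain ⟨k, hk, hk'⟩ := h.inner c hc'
    refine Additive.toMul.injective (Subtype.ext ?_)
    show c * (z.toMul : G) * c⁻¹ = _
    rw [hk' _ z.toMul.2, hc k hk _ z.toMul.2, mul_inv_cancel_right]
  have hcjmul : ∀ g g' z, cj (g * g') z = cj g (cj g' z) := fun g g' z =>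
    Additive.toMul.injective (Subtype.ext (by simp [cj, mul_assoc]))
  haveI : Module (ZMod (2 ^ a)) (Additive K) := AddCommGroup.zmodModule fun z =>
    Additive.toMul.injective (by rw [toMul_nsmul]; exact ha _)
  -- the first generator
  obtain ⟨k₀, hk₀⟩ : ∃ k₀ : Additive K, ((((2 ^ b) • k₀).toMul : K) : G) = ι ![1, 0, 0] := by
    obtain ⟨z, hz⟩ : ∃ z : K, z ^ 2 ^ b ≠ 1 := by
      by_contra hall
      push Not at hall
      exact hamin b (by omega) hall
    obtain ⟨v, hv⟩ := h.invol ((z ^ 2 ^ b : K) : G) (by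
      rw [← Subgroup.coe_mul, ← pow_add, ← two_mul, ← pow_succ', ← hb, ha]; rfl)
    have hv0 : v ≠ 0 := fun e => hz (Subtype.ext (by rw [← hv, e, h.map_zero]; rfl))
    obtain ⟨i, hi⟩ := matE_transitive v hv0
    obtain ⟨g, hg⟩ := h.full (matE ^ (7 - (i : ℕ))) (matE ^ (i : ℕ)) (by
      rw [← pow_add, Nat.sub_add_cancel (le_of_lt i.2), matE_pow])
    refine ⟨cj g (Additive.ofMul z), ?_⟩
    rw [← map_nsmul]
    show g * ((z ^ 2 ^ b : K) : G) * g⁻¹ = _
    rw [← hv, hg, ← hi, mulVec_mulVec, ← pow_add, Nat.sub_add_cancel (le_of_lt i.2), matE_pow,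
      one_mulVec]
  obtain ⟨y, hy, n, hn⟩ := h.exists_actsX
  let k : Fin 3 → Additive K := ![k₀, cj y k₀, cj y (cj y k₀)]
  have hk : ∀ i, ((((2 ^ b) • k i).toMul : K) : G) = ι (Pi.single i 1) := by
    have step : ∀ (z : Additive K) (v : Vec), ((((2 ^ b) • z).toMul : K) : G) = ι v →
        ((((2 ^ b) • cj y z).toMul : K) : G) = ι (matX.mulVec v) := fun z v hzv => by
      rw [← map_nsmul]
      show y * ((((2 ^ b) • z).toMul : K) : G) * y⁻¹ = _
      rw [hzv, hy]
    intro i
    match i with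
    | 0 => exact hk₀.trans (congrArg ι (by decide))
    | 1 => exact (step _ _ hk₀).trans (congrArg ι (by decide))
    | 2 => exact (step _ _ (step _ _ hk₀)).trans (congrArg ι (by decide))
  let Φ : (Fin 3 → ZMod (2 ^ a)) →ₗ[ZMod (2 ^ a)] Additive K := Fintype.linearCombination (ZMod (2 ^ a)) k
  have hΦ : ∀ w : Fin 3 → ZMod (2 ^ a), Φ w = w 0 • k 0 + w 1 • k 1 + w 2 • k 2 := fun w => by
    simp [Φ, Fintype.linearCombination_apply, Fin.sum_univ_three, add_assoc]
  have hhalf : ∀ s : Vec, (((Φ fun i => (((s i).val * 2 ^ b : ℕ) : ZMod (2 ^ a))).toMul : K) : G) =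
      ι s := by
    intro s
    have hterm : ∀ i, ((((((s i).val * 2 ^ b : ℕ) : ZMod (2 ^ a)) • k i).toMul : K) : G) =
        ι (Pi.single i (s i)) := fun i => by
      rw [Nat.cast_smul_eq_nsmul, mul_nsmul']
      rcases vec_cases (s i) with e | e <;> rw [e]
      · rw [Pi.single_zero, h.map_zero]; simp
      · rw [← hk i]; simp [ZMod.val_one]
    rw [hΦ, toMul_add, toMul_add, Subgroup.coe_mul, Subgroup.coe_mul, hterm, hterm, hterm, ← h.add,
      ← h.add]
    congr 1
    funext j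
    fin_cases j <;> simp [Pi.single_apply]
  haveI : NeZero (2 ^ a) := ⟨pow_ne_zero _ two_ne_zero⟩
  have hinj : Function.Injective Φ := by
    rw [injective_iff_map_eq_zero]
    intro w hw
    by_contra hne
    -- a multiple of order two
    obtain ⟨j, hj, hj'⟩ : ∃ j : ℕ, (2 ^ j) • w ≠ 0 ∧ (2 ^ (j + 1)) • w = 0 := by
      have hex : ∃ j, (2 ^ j) • w = 0 := ⟨a, funext fun i => by simp⟩
      obtain ⟨j, hj⟩ : ∃ j, Nat.find hex = j + 1 := Nat.exists_eq_succ_of_ne_zero fun e => hne (by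
        have h' := Nat.find_spec hex
        rwa [e, pow_zero, one_nsmul] at h')
      exact ⟨j, Nat.find_min hex (by omega), hj ▸ Nat.find_spec hex⟩
    have hsol : ∀ x : ZMod (2 ^ a), 2 • x = 0 →
        x = 0 ∨ x = ((2 ^ b : ℕ) : ZMod (2 ^ a)) := by
      intro x hx
      have h1 : ((2 * x.val : ℕ) : ZMod (2 ^ a)) = 0 := by
        rw [Nat.cast_mul, ZMod.natCast_rightInverse]; simpa using hx
      rw [ZMod.natCast_eq_zero_iff] at h1
      have h2 : x.val < 2 ^ a := x.val_lt
      have h3 : 2 ^ b ∣ x.val :=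
        Nat.dvd_of_mul_dvd_mul_left two_pos (by rwa [← pow_succ', ← hb])
      obtain ⟨c, hc'⟩ := h3
      have hc2 : c < 2 := by
        by_contra hge
        push Not at hge
        have : 2 ^ a ≤ x.val := by
          rw [hc', hb, pow_succ]
          exact Nat.mul_le_mul_left _ hge
        omega
      rw [← ZMod.natCast_rightInverse x, hc']
      interval_cases c <;> simp
    let v := (2 ^ j) • w
    have hv2 : ∀ i, 2 • v i = 0 := fun i => by
      have := congrFun hj' i
      rw [pow_succ', mul_nsmul'] at this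
      exact this
    let s : Vec := fun i => if v i = 0 then 0 else 1
    have hvs : v = fun i => (((s i).val * 2 ^ b : ℕ) : ZMod (2 ^ a)) := funext fun i => by
      by_cases e : v i = 0
      · simp [s, e]
      · rcases hsol _ (hv2 i) with e' | e'
        · exact absurd e' e
        · simp only [s, if_neg e, ZMod.val_one, one_mul]; exact e'
    have hs0 : s = 0 := h.inj (by
      rw [← hhalf s, ← hvs, h.map_zero]
      show (((Φ ((2 ^ j) • w)).toMul : K) : G) = 1
      rw [map_nsmul, hw, nsmul_zero]; rfl)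
    apply hj
    show v = 0
    rw [hvs, hs0]; funext i; simp
  have hsurj : Function.Surjective Φ := by
    intro z
    suffices H : ∀ j, j ≤ a → ∀ z : Additive K, (2 ^ j) • z = 0 → ∃ w, Φ w = z from
      H a le_rfl z (Additive.toMul.injective (by rw [toMul_nsmul]; exact ha _))
    intro j
    induction j with
    | zero => exact fun _ z hz => ⟨0, by rw [_root_.map_zero]; simpa using hz.symm⟩
    | succ j ih =>
      intro hja z hz
      obtain ⟨v, hv⟩ := h.invol ((((2 ^ j) • z).toMul : K) : G) (by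
        rw [← Subgroup.coe_mul, ← toMul_add, ← two_nsmul, ← mul_nsmul', ← pow_succ', hz]; rfl)
      let w : Fin 3 → ZMod (2 ^ a) := fun i => (((v i).val * 2 ^ (b - j) : ℕ) : ZMod (2 ^ a))
      have hw : (2 ^ j) • Φ w = (2 ^ j) • z := by
        refine Additive.toMul.injective (Subtype.ext ?_)
        rw [← hv, ← hhalf v, ← map_nsmul]
        congr 4
        funext i
        simp only [w, Pi.smul_apply, nsmul_eq_mul]
        rw [← Nat.cast_mul, ← mul_assoc, mul_comm _ ((v i).val), mul_assoc, ← pow_add,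
          Nat.add_sub_cancel' (show j ≤ b by omega)]
      obtain ⟨w', hw'⟩ := ih (by omega) (z - Φ w) (by rw [nsmul_sub, hw, sub_self])
      exact ⟨w + w', by rw [map_add, hw', add_sub_cancel]⟩
  let e := LinearEquiv.ofBijective Φ ⟨hinj, hsurj⟩
  -- conjugation as linear maps
  let ψ : G →* Module.End (ZMod (2 ^ a)) (Fin 3 → ZMod (2 ^ a)) :=
    { toFun := fun g => e.symm.toLinearMap ∘ₗ (cj g).toZModLinearMap (2 ^ a) ∘ₗ e.toLinearMap
      map_one' := LinearMap.ext fun w => by
        show e.symm (cj 1 (e w)) = w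
        rw [hcjC 1 (fun v => Commute.one_left _), e.symm_apply_apply]
      map_mul' := fun g g' => LinearMap.ext fun w => by
        show e.symm (cj (g * g') (e w)) = e.symm (cj g (e (e.symm (cj g' (e w)))))
        rw [e.apply_symm_apply, hcjmul] }
  let δ : G →* ZMod (2 ^ a) := LinearMap.det.comp ψ
  have hy4 : Acts ι (y ^ 4) 1 := by
    have := Acts.pow hy 4
    rwa [show matX ^ 4 = 1 by decide] at this
  have hy4K : y ^ 4 ∈ K := h.sylow _ (hy4.commute rfl) ⟨n, by
    rw [← pow_mul, mul_comm, pow_mul, hn, one_pow]⟩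
  have hδ : δ y = 1 := by
    obtain ⟨p, hp⟩ := h.full !![0, 0, 1; 0, 1, 0; 1, 0, 0] !![0, 0, 1; 0, 1, 0; 1, 0, 0] (by decide)
    obtain ⟨q, hq⟩ := h.full !![0, 0, 1; 0, 1, 1; 1, 1, 1] !![0, 1, 1; 1, 1, 0; 1, 0, 0] (by decide)
    have hc' : ∀ v, Commute ((p * q * p⁻¹ * q⁻¹)⁻¹ * y) (ι v) := by
      refine Acts.commute ((Acts.inv (((Acts.mul hp hq).mul
        (Acts.inv hp (M' := !![0, 0, 1; 0, 1, 0; 1, 0, 0]) (by decide))).mul
        (Acts.inv hq (M' := !![0, 1, 1; 1, 1, 0; 1, 0, 0]) (by decide))) (M' := matX ^ 3) ?_).mul hy) ?_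
      · decide
      · decide
    have h1 : δ ((p * q * p⁻¹ * q⁻¹)⁻¹ * y) = 1 := by
      have : ψ ((p * q * p⁻¹ * q⁻¹)⁻¹ * y) = 1 := LinearMap.ext fun w => by
        show e.symm (cj _ (e w)) = w
        rw [hcjC _ hc', e.symm_apply_apply]
      show LinearMap.det (ψ _) = 1
      rw [this, map_one]
    have h2 : δ (p * q * p⁻¹ * q⁻¹) = 1 := by
      rw [map_mul, map_mul, map_mul, mul_assoc, mul_mul_mul_comm, ← map_mul, ← map_mul,
        mul_inv_cancel, mul_inv_cancel, map_one, one_mul]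
    rw [← mul_inv_cancel_left (p * q * p⁻¹ * q⁻¹) y, map_mul, h1, h2, one_mul]
  -- the companion matrix
  obtain ⟨r, hr⟩ : ∃ r, r = e.symm (cj y (k 2)) := ⟨_, rfl⟩
  have hk3 : cj y (k 2) = r 0 • k 0 + r 1 • k 1 + r 2 • k 2 := by
    rw [← hΦ, hr]; exact (e.apply_symm_apply _).symm
  have hlin : ∀ (c : ZMod (2 ^ a)) (z : Additive K), cj y (c • z) = c • cj y z := fun c z =>
    ((cj y).toZModLinearMap (2 ^ a)).map_smul c z
  have hψy : ∀ w, ψ y w = ![w 2 * r 0, w 0 + w 2 * r 1, w 1 + w 2 * r 2] := fun w => by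
    show e.symm (cj y (e w)) = _
    rw [e.symm_apply_eq]
    show cj y (Φ w) = Φ _
    rw [hΦ, hΦ, map_add, map_add, hlin, hlin, hlin, hk3, show cj y (k 0) = k 1 from rfl,
      show cj y (k 1) = k 2 from rfl]
    simp only [Matrix.cons_val_zero, Matrix.cons_val_one, Matrix.cons_val_two, Matrix.head_cons,
      Matrix.tail_cons]
    module
  have hr0 : r 0 = 1 := by
    have hM : ψ y = Matrix.toLin' !![0, 0, r 0; 1, 0, r 1; 0, 1, r 2] :=
      LinearMap.ext fun w => by
        rw [hψy, Matrix.toLin'_apply]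
        funext i
        fin_cases i <;> simp [Matrix.mulVec, dotProduct, Fin.sum_univ_three] <;> ring
    have : LinearMap.det (ψ y) = 1 := hδ
    rw [hM, LinearMap.det_toLin', Matrix.det_fin_three] at this
    simpa using this
  have h4 : ∀ w, ψ y (ψ y (ψ y (ψ y w))) = w := fun w => by
    show (ψ y * ψ y * ψ y * ψ y) w = w
    rw [← map_mul, ← map_mul, ← map_mul, show y * y * y * y = y ^ 4 by simp [pow_succ, mul_assoc]]
    show e.symm (cj (y ^ 4) (e w)) = w
    rw [hcjC _ (hy4.commute rfl), e.symm_apply_apply]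
  have hr12 : r 2 = 1 ∧ r 1 = -1 := by
    have h0 := h4 ![1, 0, 0]
    simp only [hψy, Matrix.cons_val_zero, Matrix.cons_val_one, Matrix.cons_val_two, Matrix.head_cons,
      Matrix.tail_cons, hr0, mul_one, zero_mul, add_zero, zero_add, one_mul] at h0
    have e0 := congrFun h0 0
    have e2 := congrFun h0 2
    simp at e0 e2
    refine ⟨e0, ?_⟩
    rw [e0] at e2
    linear_combination e2
  -- the fourth power is a norm
  let w := e.symm (Additive.ofMul ⟨y ^ 4, hy4K⟩)
  have hwfix : ψ y w = w := by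
    show e.symm (cj y (e w)) = w
    rw [show e w = Additive.ofMul ⟨y ^ 4, hy4K⟩ from e.apply_symm_apply _]
    congr 1
    refine Additive.toMul.injective (Subtype.ext ?_)
    show y * y ^ 4 * y⁻¹ = y ^ 4
    rw [← pow_succ', pow_succ, mul_inv_cancel_right]
  rw [hψy, hr0, hr12.1, hr12.2] at hwfix
  have hw0 : w 2 = w 0 := by simpa using congrFun hwfix 0
  have hw1 : w 1 = 0 := by
    have := congrFun hwfix 1
    simp [hw0] at this
    exact this.symm
  let z := w 0 • k 0
  have hz : Additive.ofMul (⟨y ^ 4, hy4K⟩ : K) = z + cj y (cj y z) := by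
    have : e w = z + cj y (cj y z) := by
      show Φ w = _
      rw [hΦ, hw0, hw1, zero_smul, add_zero]
      simp only [z, hlin]
      rfl
    rw [← this]; exact (e.apply_symm_apply _).symm
  obtain ⟨Z, hZdef⟩ : ∃ Z : G, Z = ((z.toMul : K) : G) := ⟨_, rfl⟩
  have hy4' : y ^ 4 = Z * (y * (y * Z * y⁻¹) * y⁻¹) := by
    rw [hZdef]
    exact congrArg (fun x : Additive K => ((x.toMul : K) : G)) hz
  have hcomm4 : y ^ 4 * Z = Z * y ^ 4 := by
    rw [hZdef]
    exact hc _ hy4K _ z.toMul.2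
  obtain ⟨v, hv⟩ := h.invol (y * y * Z⁻¹) (by
    have e1 : y * y * Z⁻¹ * (y * y * Z⁻¹) = y ^ 4 * ((y * y)⁻¹ * Z⁻¹ * (y * y)) * Z⁻¹ := by
      simp [pow_succ, mul_assoc]
    have e2 : (y * y)⁻¹ * Z⁻¹ * (y * y) = (y * (y * Z * y⁻¹) * y⁻¹)⁻¹ := by
      calc (y * y)⁻¹ * Z⁻¹ * (y * y) = (y * y)⁻¹ * (y ^ 4 * Z * (y ^ 4)⁻¹)⁻¹ * (y * y) := by
            rw [hcomm4, mul_inv_cancel_right]
        _ = (y * (y * Z * y⁻¹) * y⁻¹)⁻¹ := by simp [pow_succ, mul_assoc]
    rw [e1, e2, hy4']
    group)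
  have hcom : ∀ u, Commute (y * y) (ι u) := fun u => by
    have e : y * y = ι v * Z := by rw [hv, inv_mul_cancel_right]
    rw [e]
    exact (h.comm v u).mul_left (h.fix _ (hZdef ▸ z.toMul.2) u)
  have hX := Acts.mul hy hy ![1, 0, 0]
  rw [(hcom ![1, 0, 0]).eq, mul_inv_cancel_right] at hX
  exact absurd (h.inj hX) (by decide)

end Reduced

end CfsgLib.BenderWorld.InvolInZ
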