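import Mathlib

/-!
# Groups whose involutions lie in an elementary abelian subgroup, two-transitive on it

`Config U`: every involution of `G` lies in the elementary abelian `U`, `|U| ≥ 4`, and `G` is
transitive on ordered pairs of distinct involutions.  The aim (see
`docs/bender_gap1_closed_helper72.md`) is that no such configuration exists.  Here: the descent to
a configuration in which an element of odd order fixing two involutions centralizes `U`, and the
case `|U| = 4`.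
-/

set_option autoImplicit false

namespace CfsgLib.BenderWorld.InvolInZ

universe u

open Subgroup

variable {G : Type u} [Group G]

/-- The configuration. -/
structure Config (U : Subgroup G) : Prop where
  elem : ∀ x ∈ U, x * x = 1
  invol : ∀ x : G, x * x = 1 → x ∈ U
  card : 4 ≤ Nat.card U
  trans : ∀ u₁ ∈ U, ∀ u₂ ∈ U, ∀ v₁ ∈ U, ∀ v₂ ∈ U, u₁ ≠ 1 → u₂ ≠ 1 → u₁ ≠ u₂ → v₁ ≠ 1 → v₂ ≠ 1 →
    v₁ ≠ v₂ → ∃ g : G, g * u₁ * g⁻¹ = v₁ ∧ g * u₂ * g⁻¹ = v₂

/-- No element of odd order fixes two involutions without centralizing `U`. -/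
def OddFix (U : Subgroup G) : Prop :=
  ∀ g : G, Odd (orderOf g) → ∀ u₁ ∈ U, ∀ u₂ ∈ U, u₁ ≠ 1 → u₂ ≠ 1 → u₁ ≠ u₂ → Commute g u₁ →
    Commute g u₂ → ∀ u ∈ U, Commute g u

namespace Config

variable {U : Subgroup G}

theorem conj_mem (h : Config U) (g : G) {x : G} (hx : x ∈ U) : g * x * g⁻¹ ∈ U :=
  h.invol _ (by
    calc g * x * g⁻¹ * (g * x * g⁻¹) = g * (x * x) * g⁻¹ := by group
      _ = 1 := by rw [h.elem x hx]; group)

theorem normal (h : Config U) : U.Normal := ⟨fun x hx g => h.conj_mem g hx⟩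

theorem inv_eq (h : Config U) {x : G} (hx : x ∈ U) : x⁻¹ = x :=
  inv_eq_of_mul_eq_one_left (h.elem x hx)

theorem comm (h : Config U) {x y : G} (hx : x ∈ U) (hy : y ∈ U) : Commute x y := by
  have h1 := h.elem _ (U.mul_mem hx hy)
  show x * y = y * x
  calc x * y = (x * y)⁻¹ := (h.inv_eq (U.mul_mem hx hy)).symm
    _ = y⁻¹ * x⁻¹ := mul_inv_rev x y
    _ = y * x := by rw [h.inv_eq hx, h.inv_eq hy]

theorem isPGroup (h : Config U) : IsPGroup 2 U := fun x =>
  ⟨1, Subtype.ext (by simpa [pow_two] using h.elem x x.2)⟩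

/-- An element of `U` normalizing a subgroup meeting `U` trivially centralizes it. -/
theorem commute_of_normalizes (h : Config U) {P : Subgroup G}
    (hP : ∀ x ∈ P, x ∈ U → x = 1) {i : G} (hi : i ∈ U) (hiN : i ∈ normalizer (P : Set G))
    {y : G} (hy : y ∈ P) : Commute i y := by
  have h1 : i * y * i⁻¹ * y⁻¹ ∈ P :=
    P.mul_mem ((mem_normalizer_iff.1 hiN y).1 hy) (P.inv_mem hy)
  have h2 : i * y * i⁻¹ * y⁻¹ ∈ U := by
    have : i * y * i⁻¹ * y⁻¹ = i * (y * i⁻¹ * y⁻¹) := by group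
    rw [this]
    exact U.mul_mem hi (h.conj_mem y (U.inv_mem hi))
  have h3 := hP _ h1 h2
  show i * y = y * i
  calc i * y = (i * y * i⁻¹ * y⁻¹) * (y * i) := by group
    _ = y * i := by rw [h3, one_mul]

theorem inter_eq_one_of_odd (h : Config U) {x : G} (hx : Odd (orderOf x)) (hxU : x ∈ U) :
    x = 1 := by
  have h1 : orderOf x ∣ 2 := orderOf_dvd_of_pow_eq_one (by rw [pow_two, h.elem x hxU])
  rcases (Nat.dvd_prime Nat.prime_two).1 h1 with h2 | h2
  · exact orderOf_eq_one_iff.1 h2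
  · rw [h2] at hx; exact absurd hx (by decide)

end Config

theorem odd_orderOf_of_isPGroup [Finite G] {s : ℕ} [Fact s.Prime] (hs : s ≠ 2) {P : Subgroup G}
    (hP : IsPGroup s P) {x : G} (hx : x ∈ P) : Odd (orderOf x) := by
  obtain ⟨k, hk⟩ := IsPGroup.iff_orderOf.1 hP ⟨x, hx⟩
  rw [← Subgroup.orderOf_mk x hx, hk]
  exact ((Fact.out : s.Prime).odd_of_ne_two hs).pow

theorem le_centralizer_pair {P : Subgroup G} {v₁ v₂ : G} (h : ∀ x ∈ P, Commute x v₁ ∧ Commute x v₂) :
    P ≤ centralizer ({v₁, v₂} : Set G) := fun x hx => mem_centralizer_iff.2 fun y hy => by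
  rcases hy with rfl | rfl
  · exact (h x hx).1.eq.symm
  · exact (h x hx).2.eq.symm

theorem mem_centralizer_pair {x v₁ v₂ : G} (hx : x ∈ centralizer ({v₁, v₂} : Set G)) :
    Commute x v₁ ∧ Commute x v₂ :=
  ⟨((mem_centralizer_iff.1 hx) v₁ (Or.inl rfl)).symm,
    ((mem_centralizer_iff.1 hx) v₂ (Or.inr rfl)).symm⟩

/-- The descent: a configuration with a smaller `U`. -/
theorem exists_smaller [Finite G] {U : Subgroup G} (h : Config U) (hne : ¬ OddFix U) :
    ∃ (N : Subgroup G) (U' : Subgroup N), Config U' ∧ Nat.card U' < Nat.card U := by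
  classical
  letI := Fintype.ofFinite G
  simp only [OddFix, not_forall] at hne
  obtain ⟨g, hg, u₁, hu₁, u₂, hu₂, h1, h2, h12, hc1, hc2, u₀, hu₀, hnc⟩ := hne
  haveI := h.normal
  let C := centralizer (U : Set G)
  have hgC : g ∉ C := fun hgC => hnc ((mem_centralizer_iff.1 hgC u₀ hu₀).symm)
  -- a prime `s` and an `s`-power of `g` outside the centralizer
  obtain ⟨s, hs, x, hxg, hxC, e, hxo⟩ : ∃ s : ℕ, s.Prime ∧ ∃ x ∈ zpowers g, x ∉ C ∧
      ∃ e : ℕ, orderOf x = s ^ e := by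
    by_contra hall
    push Not at hall
    apply hgC
    suffices ∀ n, ∀ x ∈ zpowers g, orderOf x = n → x ∈ C from this _ g (mem_zpowers g) rfl
    intro n
    induction n using Nat.recOnPrimeCoprime with
    | zero => exact fun x _ hx => absurd hx (orderOf_pos x).ne'
    | prime_pow p k hp =>
      intro x hx hxo
      by_contra hxC
      exact hall p hp x hx hxC k hxo
    | coprime a b _ _ hab iha ihb =>
      intro x hx hxo
      have hA : orderOf (x ^ b) = a := by
        rw [orderOf_pow' x (by omega), hxo, Nat.gcd_eq_right (dvd_mul_left b a),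
          Nat.mul_div_cancel _ (by omega)]
      have hB : orderOf (x ^ a) = b := by
        rw [orderOf_pow' x (by omega), hxo, Nat.gcd_eq_right (dvd_mul_right a b),
          Nat.mul_div_cancel_left _ (by omega)]
      have ha' := iha _ ((zpowers g).pow_mem hx b) hA
      have hb' := ihb _ ((zpowers g).pow_mem hx a) hB
      have hbez := Nat.gcd_eq_gcd_ab a b
      have : x = (x ^ b) ^ (Nat.gcdB a b) * (x ^ a) ^ (Nat.gcdA a b) := by
        rw [← zpow_natCast x b, ← zpow_natCast x a, ← zpow_mul, ← zpow_mul, ← zpow_add, add_comm,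
          ← hbez, Nat.coprime_iff_gcd_eq_one.1 hab, Nat.cast_one, zpow_one]
      rw [this]
      exact C.mul_mem (C.zpow_mem ha' _) (C.zpow_mem hb' _)
  haveI : Fact s.Prime := ⟨hs⟩
  have hcomm : ∀ y ∈ zpowers g, Commute y u₁ ∧ Commute y u₂ := by
    rintro y ⟨i, rfl⟩
    exact ⟨hc1.zpow_left i, hc2.zpow_left i⟩
  have hs2 : s ≠ 2 := by
    rintro rfl
    have hd : orderOf x ∣ orderOf g := by
      obtain ⟨i, rfl⟩ := hxg
      exact orderOf_dvd_of_mem_zpowers ⟨i, rfl⟩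
    rw [hxo] at hd
    rcases e with _ | e
    · have hx1 : x = 1 := orderOf_eq_one_iff.1 (by simpa using hxo)
      exact hxC (hx1 ▸ C.one_mem)
    · exact (Nat.not_even_iff_odd.2 hg) (even_iff_two_dvd.2 (dvd_trans (dvd_pow_self 2 e.succ_ne_zero) hd))
  -- a largest `s`-subgroup fixing two involutions and moving `U`
  let Q : Set (Subgroup G) := {P | IsPGroup s P ∧ ¬ P ≤ C ∧
    ∃ v₁ ∈ U, ∃ v₂ ∈ U, v₁ ≠ 1 ∧ v₂ ≠ 1 ∧ v₁ ≠ v₂ ∧ ∀ x ∈ P, Commute x v₁ ∧ Commute x v₂}
  have hQ : Q.Nonempty := ⟨zpowers x, IsPGroup.of_card (n := e) (by rw [Nat.card_zpowers, hxo]),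
    fun hle => hxC (hle (mem_zpowers x)), u₁, hu₁, u₂, hu₂, h1, h2, h12,
    fun y hy => hcomm y (zpowers_le.2 hxg hy)⟩
  obtain ⟨P, ⟨hP, hPC, v₁, hv₁, v₂, hv₂, hv1, hv2, hv12, hPv⟩, hmax⟩ :=
    Set.Finite.exists_maximalFor (fun P : Subgroup G => Nat.card P) Q (Set.toFinite _) hQ
  let U₀ := U ⊓ centralizer (P : Set G)
  -- `P` is maximal in the stabilizer of every pair in `U₀`
  have hmax' : ∀ w₁ ∈ U, ∀ w₂ ∈ U, w₁ ≠ 1 → w₂ ≠ 1 → w₁ ≠ w₂ → ∀ R : Subgroup G,
      R ≤ centralizer ({w₁, w₂} : Set G) → IsPGroup s R → ¬ R ≤ C →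
      Nat.card P ≤ Nat.card R → Nat.card R = Nat.card P := fun w₁ hw₁ w₂ hw₂ a b c R hR hRp hRC hle =>
    le_antisymm (hmax ⟨hRp, hRC, w₁, hw₁, w₂, hw₂, a, b, c,
      fun x hx => mem_centralizer_pair (hR hx)⟩ hle) hle
  have hPU : ∀ x ∈ P, x ∈ U → x = 1 := fun x hx hxU =>
    h.inter_eq_one_of_odd (odd_orderOf_of_isPGroup hs2 hP hx) hxU
  have hU₀N : U₀ ≤ normalizer (P : Set G) := fun y hy => mem_normalizer_iff.2 fun z => by
    constructor
    · intro hz
      rw [← mem_centralizer_iff.1 hy.2 z hz, mul_inv_cancel_right]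
      exact hz
    · intro hz
      have h' : y * z * y⁻¹ * y = y * (y * z * y⁻¹) := mem_centralizer_iff.1 hy.2 _ hz
      rw [inv_mul_cancel_right] at h'
      rw [mul_left_cancel h']
      exact hz
  refine ⟨normalizer (P : Set G), U₀.subgroupOf _, ⟨?_, ?_, ?_, ?_⟩, ?_⟩
  · intro x hx
    exact Subtype.ext (h.elem _ (mem_subgroupOf.1 hx).1)
  · intro x hx
    have hxU := h.invol _ (by simpa using congrArg Subtype.val hx)
    refine mem_subgroupOf.2 ⟨hxU, mem_centralizer_iff.2 fun y hy => ?_⟩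
    exact (h.commute_of_normalizes hPU hxU x.2 hy).eq.symm
  · rw [Nat.card_congr (subgroupOfEquivOfLe hU₀N).toEquiv]
    have hsub : ({1, v₁, v₂, v₁ * v₂} : Finset G) ⊆ (Finset.univ.filter (· ∈ U₀) : Finset G) := by
      intro z hz
      have hc : ∀ w ∈ U, (∀ x ∈ P, Commute x w) → w ∈ U₀ := fun w hw hc' =>
        ⟨hw, mem_centralizer_iff.2 fun x hx => (hc' x hx).eq⟩
      simp only [Finset.mem_filter, Finset.mem_univ, true_and]
      simp only [Finset.mem_insert, Finset.mem_singleton] at hz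
      rcases hz with rfl | rfl | rfl | rfl
      · exact U₀.one_mem
      · exact hc _ hv₁ fun x hx => (hPv x hx).1
      · exact hc _ hv₂ fun x hx => (hPv x hx).2
      · exact hc _ (U.mul_mem hv₁ hv₂) fun x hx => (hPv x hx).1.mul_right (hPv x hx).2
    have hne1 : v₁ * v₂ ≠ 1 := fun e => hv12 (by rw [← h.inv_eq hv₂]; exact eq_inv_of_mul_eq_one_left e)
    have hc4 : ({1, v₁, v₂, v₁ * v₂} : Finset G).card = 4 := by
      rw [Finset.card_insert_of_notMem, Finset.card_insert_of_notMem, Finset.card_pair]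
      · simpa using hv1
      · simp [hv12, hv2]
      · simp [Ne.symm hv1, Ne.symm hv2, Ne.symm hne1]
    have := Finset.card_le_card hsub
    rw [hc4] at this
    rw [Nat.card_eq_fintype_card]
    rwa [Fintype.card_of_subtype (Finset.univ.filter (· ∈ U₀) : Finset G) (fun z => by simp)]
  · intro a₁ ha₁ a₂ ha₂ b₁ hb₁ b₂ hb₂ na₁ na₂ na nb₁ nb₂ nb
    have hA₁ := mem_subgroupOf.1 ha₁
    have hA₂ := mem_subgroupOf.1 ha₂
    have hB₁ := mem_subgroupOf.1 hb₁
    have hB₂ := mem_subgroupOf.1 hb₂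
    have ne1 : ∀ z : normalizer (P : Set G), z ≠ 1 → (z : G) ≠ 1 := fun z hz e => hz (Subtype.ext e)
    have nev : ∀ z w : normalizer (P : Set G), z ≠ w → (z : G) ≠ w := fun z w hz e => hz (Subtype.ext e)
    obtain ⟨n, hn1, hn2⟩ := h.trans _ hA₁.1 _ hA₂.1 _ hB₁.1 _ hB₂.1 (ne1 _ na₁) (ne1 _ na₂)
      (nev _ _ na) (ne1 _ nb₁) (ne1 _ nb₂) (nev _ _ nb)
    let D := centralizer ({(b₁ : G), (b₂ : G)} : Set G)
    have hfixP : ∀ z ∈ U₀, ∀ x ∈ P, Commute x z := fun z hz x hx =>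
      mem_centralizer_iff.1 hz.2 x hx
    have hPD : P ≤ D := le_centralizer_pair fun x hx => ⟨hfixP _ hB₁ x hx, hfixP _ hB₂ x hx⟩
    let P₂ := P.map (MulAut.conj n).toMonoidHom
    have hP₂card : Nat.card P₂ = Nat.card P := card_map_of_injective (MulAut.conj n).injective
    have hP₂D : P₂ ≤ D := le_centralizer_pair (by
      rintro _ ⟨x, hx, rfl⟩
      exact ⟨hn1 ▸ (hfixP _ hA₁ x hx).map (MulAut.conj n), hn2 ▸ (hfixP _ hA₂ x hx).map (MulAut.conj n)⟩)
    have hP₂C : ¬ P₂ ≤ C := fun hle => hPC fun x hx => by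
      have := hle (mem_map_of_mem _ hx)
      refine mem_centralizer_iff.2 fun u hu => ?_
      have h' := mem_centralizer_iff.1 this _ (h.conj_mem n hu)
      have e : (MulAut.conj n).toMonoidHom x = n * x * n⁻¹ := rfl
      rw [e] at h'
      have : n * (u * x) * n⁻¹ = n * (x * u) * n⁻¹ := by
        calc n * (u * x) * n⁻¹ = n * u * n⁻¹ * (n * x * n⁻¹) := by group
          _ = n * x * n⁻¹ * (n * u * n⁻¹) := h'
          _ = n * (x * u) * n⁻¹ := by group
      exact mul_left_cancel (mul_right_cancel this)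
    have syl : ∀ R : Subgroup G, IsPGroup s R → ¬ R ≤ C → R ≤ D → Nat.card R = Nat.card P →
        ∀ T : Subgroup D, IsPGroup s T → R.subgroupOf D ≤ T → T = R.subgroupOf D := by
      intro R _ hRC hRD hRc T hT hle
      have hcT : Nat.card (T.map D.subtype) = Nat.card T := card_map_of_injective D.subtype_injective
      have hle' : R ≤ T.map D.subtype := fun x hx =>
        ⟨⟨x, hRD hx⟩, hle (mem_subgroupOf.2 hx), rfl⟩
      have hTc := hmax' _ hB₁.1 _ hB₂.1 (ne1 _ nb₁) (ne1 _ nb₂) (nev _ _ nb) (T.map D.subtype)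
        (map_subtype_le T) (hT.map _) (fun hc => hRC (hle'.trans hc))
        (hRc ▸ Subgroup.card_le_of_le hle')
      refine (eq_of_le_of_card_ge hle ?_).symm
      rw [Nat.card_congr (subgroupOfEquivOfLe hRD).toEquiv, hRc, ← hcT, hTc]
    let S₁ : Sylow s D := ⟨P.subgroupOf D, hP.comap_subtype, fun {T} hT hle => syl P hP hPC hPD rfl T hT hle⟩
    let S₂ : Sylow s D := ⟨P₂.subgroupOf D, (hP.map _).comap_subtype,
      fun {T} hT hle => syl P₂ (hP.map _) hP₂C hP₂D hP₂card T hT hle⟩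
    obtain ⟨c, hc⟩ := MulAction.exists_smul_eq D S₂ S₁
    have hcn : (c : G) * n ∈ normalizer (P : Set G) := by
      have hle : P.map (MulAut.conj ((c : G) * n)).toMonoidHom ≤ P := by
        rintro _ ⟨x, hx, rfl⟩
        have hx₂ : (⟨n * x * n⁻¹, hP₂D ⟨x, hx, rfl⟩⟩ : D) ∈ S₂.toSubgroup :=
          mem_subgroupOf.2 ⟨x, hx, rfl⟩
        have h3 : c * (⟨n * x * n⁻¹, hP₂D ⟨x, hx, rfl⟩⟩ : D) * c⁻¹ ∈ S₁.toSubgroup := by
          rw [← hc]
          exact ⟨_, hx₂, rfl⟩
        have h4 : (c : G) * (n * x * n⁻¹) * (c : G)⁻¹ ∈ P := mem_subgroupOf.1 h3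
        simpa [mul_assoc] using h4
      rw [mem_normalizer_iff_map_conj_eq]
      exact eq_of_le_of_card_ge hle
        (card_map_of_injective (f := (MulAut.conj ((c : G) * n)).toMonoidHom)
          (MulAut.conj ((c : G) * n)).injective).ge
    obtain ⟨hcb₁, hcb₂⟩ := mem_centralizer_pair c.2
    have key : ∀ {a b : G}, n * a * n⁻¹ = b → Commute (c : G) b →
        (c : G) * n * a * ((c : G) * n)⁻¹ = b := fun {a b} e hcb => by
      calc (c : G) * n * a * ((c : G) * n)⁻¹ = (c : G) * (n * a * n⁻¹) * (c : G)⁻¹ := by group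
        _ = b := by rw [e, hcb.eq, mul_inv_cancel_right]
    exact ⟨⟨_, hcn⟩, Subtype.ext (key hn1 hcb₁), Subtype.ext (key hn2 hcb₂)⟩
  · rw [Nat.card_congr (subgroupOfEquivOfLe hU₀N).toEquiv]
    refine lt_of_le_of_ne (Subgroup.card_le_of_le inf_le_left) fun e => hPC fun x hx => ?_
    have hEq : U₀ = U := eq_of_le_of_card_ge inf_le_left e.ge
    exact mem_centralizer_iff.2 fun u hu => (mem_centralizer_iff.1 (hEq.ge hu).2 x hx).symm

end CfsgLib.BenderWorld.InvolInZ
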