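import Mathlib
import Cfsg.Agent.Coprime.SchurZassenhaus

/-!
# The configuration with eight: reduction to a normal 2-subgroup acting as the whole kernel

All involutions of `G` lie in an elementary group `ι (Fin 3 → ZMod 2)` on which `G` induces the
whole of `GL(3,2)`.  Two Frattini arguments give a subgroup with the same properties in which the
kernel of the action has a normal Sylow 2-subgroup and acts on it by inner automorphisms.
-/

set_option autoImplicit false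

namespace CfsgLib.BenderWorld.InvolInZ

universe u

open Subgroup
open scoped Pointwise

/-- Three dimensional binary vectors. -/
abbrev Vec : Type := Fin 3 → ZMod 2

variable {G : Type u} [Group G]

/-- The configuration with eight. -/
structure Eight (ι : Vec → G) : Prop where
  inj : Function.Injective ι
  add : ∀ v w, ι (v + w) = ι v * ι w
  invol : ∀ x : G, x * x = 1 → ∃ v, ι v = x
  full : ∀ M M' : Matrix (Fin 3) (Fin 3) (ZMod 2), M * M' = 1 →
    ∃ g : G, ∀ v, g * ι v * g⁻¹ = ι (M.mulVec v)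

/-- The reduced configuration. -/
structure Reduced (ι : Vec → G) (K : Subgroup G) : Prop extends Eight ι where
  normal : ∀ g : G, ∀ x ∈ K, g * x * g⁻¹ ∈ K
  isPGroup : IsPGroup 2 K
  fix : ∀ x ∈ K, ∀ v, Commute x (ι v)
  mem : ∀ v, ι v ∈ K
  sylow : ∀ c : G, (∀ v, Commute c (ι v)) → (∃ n : ℕ, c ^ 2 ^ n = 1) → c ∈ K
  inner : ∀ c : G, (∀ v, Commute c (ι v)) → ∃ k ∈ K, ∀ x ∈ K, c * x * c⁻¹ = k * x * k⁻¹

namespace Eight

variable {ι : Vec → G}

theorem map_zero (h : Eight ι) : ι 0 = 1 := by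
  have := h.add 0 0
  rw [add_zero] at this
  exact left_eq_mul.1 this

theorem sq (h : Eight ι) (v : Vec) : ι v * ι v = 1 := by
  rw [← h.add, show v + v = 0 from ZModModule.add_self v, h.map_zero]

theorem comm (h : Eight ι) (v w : Vec) : Commute (ι v) (ι w) := by
  show ι v * ι w = ι w * ι v
  rw [← h.add, ← h.add, add_comm]

theorem exists_conj (h : Eight ι) (g : G) (v : Vec) : ∃ w, ι w = g * ι v * g⁻¹ :=
  h.invol _ (by
    calc g * ι v * g⁻¹ * (g * ι v * g⁻¹) = g * (ι v * ι v) * g⁻¹ := by group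
      _ = 1 := by rw [h.sq]; group)

/-- The reduction. -/
theorem exists_reduced [Finite G] (h : Eight ι) :
    ∃ (N : Subgroup G) (ι' : Vec → N) (K : Subgroup N), Reduced ι' K := by
  classical
  haveI : Fact (Nat.Prime 2) := ⟨Nat.prime_two⟩
  let C : Subgroup G := centralizer (Set.range ι)
  have hC : ∀ {x : G}, x ∈ C ↔ ∀ v, Commute x (ι v) := fun {x} => by
    rw [mem_centralizer_iff]
    exact ⟨fun hx v => (hx _ ⟨v, rfl⟩).symm, fun hx y hy => by
      obtain ⟨v, rfl⟩ := hy; exact (hx v).eq.symm⟩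
  haveI hCn : C.Normal := ⟨fun x hx g => hC.2 fun v => by
    obtain ⟨w, hw⟩ := h.exists_conj g⁻¹ v
    have e : ι v = g * ι w * g⁻¹ := by rw [hw]; group
    rw [e]
    exact (hC.1 hx w).map (MulAut.conj g)⟩
  have hιC : ∀ v, ι v ∈ C := fun v => hC.2 fun w => h.comm v w
  let K₀ : Sylow 2 C := default
  let K₁ : Subgroup G := (K₀ : Subgroup C).map C.subtype
  let N₁ : Subgroup G := normalizer (K₁ : Set G)
  have hK₁C : K₁ ≤ C := map_subtype_le _
  let C₁ : Subgroup G := C ⊓ N₁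
  have hK₁C₁ : K₁ ≤ C₁ := le_inf hK₁C le_normalizer
  haveI hK₁n : (K₁.subgroupOf C₁).Normal :=
    (normal_subgroupOf_iff_le_normalizer hK₁C₁).2 inf_le_right
  have hK₁p : IsPGroup 2 K₁ := K₀.2.map _
  have hK₁p' : IsPGroup 2 (K₁.subgroupOf C₁) := hK₁p.comap_subtype
  have hidx : ¬ 2 ∣ (K₁.subgroupOf C₁).index := fun hd => by
    apply K₀.not_dvd_index
    have e : K₁.relIndex C₁ * C₁.relIndex C = K₁.relIndex C :=
      relIndex_mul_relIndex _ _ _ hK₁C₁ inf_le_left
    have e' : K₁.relIndex C = (K₀ : Subgroup C).index := by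
      show (K₁.subgroupOf C).index = _
      rw [subgroupOf, comap_map_eq_self_of_injective C.subtype_injective]
    rw [← e', ← e]
    exact dvd_mul_of_dvd_left hd _
  have hcop : (Nat.card (K₁.subgroupOf C₁)).Coprime (K₁.subgroupOf C₁).index := by
    obtain ⟨n, hn⟩ := IsPGroup.iff_card.1 hK₁p'
    rw [hn]
    exact Nat.Coprime.pow_left n ((Nat.prime_two.coprime_iff_not_dvd).2 hidx)
  have hιK : ∀ v, ι v ∈ K₁ := by
    intro v
    have h2 : (⟨ι v, hιC v⟩ : C) ∈ (K₀ : Subgroup C) := by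
      let Z : Subgroup C := (zpowers (⟨ι v, hιC v⟩ : C))
      haveI : Z.Normal := ⟨fun x hx y => by
        obtain ⟨i, rfl⟩ := hx
        have : Commute y (⟨ι v, hιC v⟩ : C) := Subtype.ext ((hC.1 y.2 v).eq)
        rw [(this.zpow_right i).eq, mul_inv_cancel_right]
        exact ⟨i, rfl⟩⟩
      have hZ : IsPGroup 2 Z := fun x => by
        refine ⟨1, ?_⟩
        obtain ⟨i, hi⟩ := x.2
        apply Subtype.ext
        show (x : C) ^ 2 ^ 1 = 1
        rw [← hi, pow_one, ← zpow_natCast, ← zpow_mul, mul_comm, zpow_mul, zpow_natCast, pow_two]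
        rw [show (⟨ι v, hιC v⟩ : C) * ⟨ι v, hιC v⟩ = 1 from Subtype.ext (h.sq v), one_zpow]
      have := K₀.is_maximal' (K₀.2.to_sup_of_normal_right hZ) le_sup_left
      exact this.le (mem_sup_right (mem_zpowers _))
    exact ⟨_, h2, rfl⟩
  obtain ⟨O₀, hO₀⟩ := exists_right_complement'_of_coprime hcop
  let O₁ : Subgroup G := O₀.map C₁.subtype
  have hO₁C₁ : O₁ ≤ C₁ := map_subtype_le _
  have hsup : K₁ ⊔ O₁ = C₁ := by
    have := congrArg (fun S => S.map C₁.subtype) hO₀.sup_eq_top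
    simpa only [Subgroup.map_sup, map_subgroupOf_eq_of_le hK₁C₁, ← MonoidHom.range_eq_map,
      range_subtype] using this
  have hcard : Nat.card O₁ = (K₁.subgroupOf C₁).index := by
    rw [show Nat.card O₁ = Nat.card O₀ from card_map_of_injective C₁.subtype_injective]
    exact hO₀.symm.index_eq_card.symm
  have hcop' : (Nat.card K₁).Coprime (Nat.card O₁) := by
    rw [hcard, ← Nat.card_congr (subgroupOfEquivOfLe hK₁C₁).toEquiv]
    exact hcop
  have hdisj : K₁ ⊓ O₁ = ⊥ := inf_eq_bot_of_coprime hcop'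
  let N : Subgroup G := N₁ ⊓ normalizer (O₁ : Set G)
  have hιN : ∀ v, ι v ∈ N := fun v => ⟨le_normalizer (hιK v), mem_normalizer_iff.2 fun y => by
    have hkey : ∀ y ∈ O₁, ι v * y * (ι v)⁻¹ = y := fun y hy => by
      rw [← (hC.1 (hO₁C₁ hy).1 v).eq, mul_inv_cancel_right]
    constructor
    · intro hy; rw [hkey y hy]; exact hy
    · intro hy
      have := hkey _ hy
      have e : ι v * y * (ι v)⁻¹ = y := by
        apply mul_left_cancel (a := ι v)
        apply mul_right_cancel (b := (ι v)⁻¹)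
        simpa [mul_assoc] using this
      rwa [e] at hy⟩
  -- the subgroup induces everything
  have hcov : ∀ g : G, ∃ n ∈ N, ∀ v, n * ι v * n⁻¹ = g * ι v * g⁻¹ := by
    intro g
    have hmem : g ∈ N₁ ⊔ C := by
      rw [show N₁ ⊔ C = ⊤ from Sylow.normalizer_sup_eq_top K₀]; trivial
    obtain ⟨n, hn, c, hc, rfl⟩ := mem_sup_of_normal_right.1 hmem
    have hCmap : MulAut.conj n • C₁ = C₁ := by
      refine eq_of_le_of_card_ge ?_ (card_map_of_injective (MulAut.conj n).injective).ge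
      rintro _ ⟨x, hx, rfl⟩
      exact ⟨hCn.conj_mem x hx.1 n, N₁.mul_mem (N₁.mul_mem hn hx.2) (N₁.inv_mem hn)⟩
    have hKmap : MulAut.conj n • K₁ = K₁ := mem_normalizer_iff_map_conj_eq.1 hn
    have hO' : MulAut.conj n • O₁ ≤ C₁ := by
      rw [← hCmap]
      exact Subgroup.map_mono hO₁C₁
    obtain ⟨k, hk, hkc⟩ := CfsgLib.Coprime.exists_conj_eq_of_sup_eq (N := K₁)
      (H := MulAut.conj n • O₁) (K := O₁) (hO'.trans inf_le_right) (hO₁C₁.trans inf_le_right)
      (by rwa [show Nat.card ↥(MulAut.conj n • O₁) = Nat.card O₁ from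
        card_map_of_injective (MulAut.conj n).injective])
      (card_map_of_injective (MulAut.conj n).injective).symm
      (by
        calc K₁ ⊔ MulAut.conj n • O₁ = MulAut.conj n • (K₁ ⊔ O₁) := by rw [smul_sup, hKmap]
          _ = K₁ ⊔ O₁ := by rw [hsup, hCmap])
      (Or.inl (by haveI := hK₁p.isNilpotent; infer_instance))
    refine ⟨k * n, ⟨N₁.mul_mem (le_normalizer hk) hn, mem_normalizer_iff_map_conj_eq.2 ?_⟩, fun v => ?_⟩
    · show MulAut.conj (k * n) • O₁ = O₁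
      rw [map_mul, mul_smul, hkc]
    · obtain ⟨w, hw⟩ := h.exists_conj n v
      calc k * n * ι v * (k * n)⁻¹ = k * (n * ι v * n⁻¹) * k⁻¹ := by group
        _ = n * ι v * n⁻¹ := by rw [← hw, (hC.1 (hK₁C hk) w).eq, mul_inv_cancel_right]
        _ = n * (c * ι v * c⁻¹) * n⁻¹ := by rw [(hC.1 hc v).eq, mul_inv_cancel_right]
        _ = n * c * ι v * (n * c)⁻¹ := by group
  have hC₁ : ∀ c : N, (∀ v, Commute c (⟨ι v, hιN v⟩ : N)) → (c : G) ∈ C₁ := fun c hc =>
    ⟨hC.2 fun v => congrArg Subtype.val (hc v).eq, c.2.1⟩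
  refine ⟨N, fun v => ⟨ι v, hιN v⟩, K₁.subgroupOf N,
    ⟨⟨fun v w e => h.inj (congrArg Subtype.val e), fun v w => Subtype.ext (h.add v w), ?_, ?_⟩,
      ?_, hK₁p.comap_subtype, ?_, ?_, ?_, ?_⟩⟩
  · intro x hx
    obtain ⟨v, hv⟩ := h.invol x (by simpa using congrArg Subtype.val hx)
    exact ⟨v, Subtype.ext hv⟩
  · intro M M' hM
    obtain ⟨g, hg⟩ := h.full M M' hM
    obtain ⟨n, hn, hnv⟩ := hcov g
    exact ⟨⟨n, hn⟩, fun v => Subtype.ext ((hnv v).trans (hg v))⟩
  · intro g x hx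
    exact mem_subgroupOf.2 ((mem_normalizer_iff.1 g.2.1 x).1 (mem_subgroupOf.1 hx))
  · intro x hx v
    exact Subtype.ext (hC.1 (hK₁C (mem_subgroupOf.1 hx)) v)
  · intro v; exact mem_subgroupOf.2 (hιK v)
  · rintro c hc ⟨n, hn⟩
    refine mem_subgroupOf.2 ?_
    have h1 : (⟨c, hC₁ c hc⟩ : C₁) ^ (K₁.subgroupOf C₁).index ∈ K₁.subgroupOf C₁ :=
      pow_index_mem _ _
    have h2 : (⟨c, hC₁ c hc⟩ : C₁) ^ 2 ^ n = 1 := Subtype.ext (by
      simpa using congrArg Subtype.val hn)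
    have hco : (orderOf (⟨c, hC₁ c hc⟩ : C₁)).Coprime (K₁.subgroupOf C₁).index :=
      Nat.Coprime.coprime_dvd_left (orderOf_dvd_of_pow_eq_one h2)
        (Nat.Coprime.pow_left n ((Nat.prime_two.coprime_iff_not_dvd).2 hidx))
    obtain ⟨m, hm⟩ := exists_pow_eq_self_of_coprime hco.symm
    have h3 := (K₁.subgroupOf C₁).pow_mem h1 m
    rw [hm] at h3
    exact h3
  · intro c hc
    have htop : (⟨c, hC₁ c hc⟩ : C₁) ∈ K₁.subgroupOf C₁ ⊔ O₀ := by
      rw [hO₀.sup_eq_top]; trivial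
    obtain ⟨k, hk, o, ho, hko⟩ := mem_sup_of_normal_left.1 htop
    have hko' : (k : G) * (o : G) = c := congrArg Subtype.val hko
    have hoN : (o : G) ∈ N := ⟨o.2.2, le_normalizer ⟨o, ho, rfl⟩⟩
    have hkN : (k : G) ∈ N := by
      rw [eq_mul_inv_of_mul_eq hko']
      exact N.mul_mem c.2 (N.inv_mem hoN)
    refine ⟨⟨k, hkN⟩, mem_subgroupOf.2 (mem_subgroupOf.1 hk), fun x hx => Subtype.ext ?_⟩
    have hxK : (x : G) ∈ K₁ := mem_subgroupOf.1 hx
    have hox : (o : G) * x * (o : G)⁻¹ * (x : G)⁻¹ ∈ K₁ ⊓ O₁ := by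
      refine ⟨K₁.mul_mem ((mem_normalizer_iff.1 o.2.2 _).1 hxK) (K₁.inv_mem hxK), ?_⟩
      have ho₁ : (o : G) ∈ O₁ := ⟨o, ho, rfl⟩
      rw [show (o : G) * x * (o : G)⁻¹ * (x : G)⁻¹ = o * (x * (o : G)⁻¹ * (x : G)⁻¹) by group]
      exact O₁.mul_mem ho₁ ((mem_normalizer_iff.1 x.2.2 _).1 (O₁.inv_mem ho₁))
    rw [hdisj, mem_bot, mul_inv_eq_one] at hox
    show (c : G) * x * (c : G)⁻¹ = k * x * (k : G)⁻¹
    calc (c : G) * x * (c : G)⁻¹ = k * ((o : G) * x * (o : G)⁻¹) * (k : G)⁻¹ := by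
          rw [← hko']; group
      _ = _ := by rw [hox]

end Eight

end CfsgLib.BenderWorld.InvolInZ
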