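import Cfsg.Agent.BenderWorld.InvolInZ.Abelian

/-!
# Anisotropic squaring maps equivariant for `GL(3,2)`

There is no elementary abelian 2-group `T ≠ 1` with an action of `GL(3,2)`, an equivariant map `q`
to the natural module vanishing only at `1`, and a non-degenerate polar form: counting the vectors
over a point gives one fixed by its stabilizer, these span a copy `W` of the natural module on
which the form vanishes, and the form gives an embedding of `T / W` into `3 × 3` matrices with an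
image of at most eight elements invariant under conjugation.
-/

set_option autoImplicit false

namespace CfsgLib.BenderWorld.InvolInZ

universe u

open Matrix

/-- Binary matrices. -/
abbrev Mat : Type := Matrix (Fin 3) (Fin 3) (ZMod 2)

/-- Invertible binary matrices. -/
abbrev GLThree : Type := Matˣ

namespace GLElt

/-- Order seven. -/
def E : GLThree := ⟨matE, matE ^ 6, by decide, by decide⟩

/-- Transvection with center `e₀`. -/
def a : GLThree := ⟨!![1, 1, 0; 0, 1, 0; 0, 0, 1], !![1, 1, 0; 0, 1, 0; 0, 0, 1], by decide, by decide⟩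

/-- Another one. -/
def b : GLThree := ⟨!![1, 0, 1; 0, 1, 0; 0, 0, 1], !![1, 0, 1; 0, 1, 0; 0, 0, 1], by decide, by decide⟩

/-- The element of order three normalizing `E`. -/
def s : GLThree := ⟨!![1, 0, 0; 0, 0, 1; 0, 1, 1], !![1, 0, 0; 0, 1, 1; 0, 1, 0], by decide, by decide⟩

/-- The transposition of `e₁`, `e₂`. -/
def g : GLThree := ⟨!![1, 0, 0; 0, 0, 1; 0, 1, 0], !![1, 0, 0; 0, 0, 1; 0, 1, 0], by decide, by decide⟩

/-- A transvection with axis `e₁, e₂`. -/
def c₁ : GLThree := ⟨!![1, 0, 0; 1, 1, 0; 0, 0, 1], !![1, 0, 0; 1, 1, 0; 0, 0, 1], by decide, by decide⟩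

theorem E7 : E ^ 7 = 1 := Units.ext (by decide)
theorem s3 : s * s * s = 1 := Units.ext (by decide)
theorem aa : a * a = 1 := Units.ext (by decide)
theorem bb : b * b = 1 := Units.ext (by decide)
theorem gg : g * g = 1 := Units.ext (by decide)
theorem ab : b * a = a * b := Units.ext (by decide)
theorem sE : s * E = E ^ 2 * s := Units.ext (by decide)
theorem sg : s * g = g * (s * s) := Units.ext (by decide)
theorem ga : a * g = g * b := Units.ext (by decide)
theorem gb : b * g = g * a := Units.ext (by decide)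
theorem as : a * s = s * b := Units.ext (by decide)
theorem bs : b * s = s * (a * b) := Units.ext (by decide)

theorem fixed_s : ∀ v : Vec, (s : Mat).mulVec v = v → v = 0 ∨ v = ![1, 0, 0] := by decide
theorem fixed_ab : ∀ v : Vec, (a : Mat).mulVec v = v → (b : Mat).mulVec v = v →
    v = 0 ∨ v = ![1, 0, 0] := by decide
theorem fixed_E : ∀ v : Vec, (E : Mat).mulVec v = v → v = 0 := by decide
theorem fixed_line : ∀ v : Vec, (c₁ : Mat).mulVec v = v → (g : Mat).mulVec v = v →
    v = 0 ∨ v = ![0, 1, 1] := by decide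

theorem stab_cases : ∀ x y z w p r : ZMod 2, z * r + w * p = 1 →
    ∃ i j : Fin 2, ∃ k : Fin 3, ∃ l : Fin 2, (!![1, x, y; 0, z, w; 0, p, r] : Mat) =
      (a : Mat) ^ (i : ℕ) * (b : Mat) ^ (j : ℕ) * (s : Mat) ^ (k : ℕ) * (g : Mat) ^ (l : ℕ) := by
  decide

theorem stab_gen (M : GLThree) (hM : (M : Mat).mulVec ![1, 0, 0] = ![1, 0, 0]) :
    ∃ i j k l : ℕ, M = a ^ i * b ^ j * s ^ k * g ^ l := by
  have h0 : ∀ i, (M : Mat) i 0 = (![1, 0, 0] : Vec) i := fun i => by
    have := congrFun hM i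
    simpa [mulVec, dotProduct, Fin.sum_univ_three] using this
  have hd : (M : Mat).det ≠ 0 := (M.isUnit.map Matrix.detMonoidHom).ne_zero
  rw [det_fin_three, h0 0, h0 1, h0 2] at hd
  simp at hd
  obtain ⟨i, j, k, l, hc⟩ := stab_cases ((M : Mat) 0 1) ((M : Mat) 0 2) ((M : Mat) 1 1)
    ((M : Mat) 1 2) ((M : Mat) 2 1) ((M : Mat) 2 2) (by
      revert hd
      generalize (M : Mat) 1 1 = z, (M : Mat) 1 2 = w, (M : Mat) 2 1 = p, (M : Mat) 2 2 = r
      revert z w p r
      decide)
  refine ⟨i, j, k, l, Units.ext ?_⟩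
  simp only [Units.val_mul, Units.val_pow_eq_pow_val]
  rw [← hc]
  ext i' j'
  fin_cases i' <;> fin_cases j' <;> simp [h0]

theorem pair_cases : ∀ u v : Vec, u ≠ 0 → v ≠ 0 → u ≠ v → ∃ x : Vec,
    x 0 * u 1 * v 2 + x 0 * v 1 * u 2 + u 0 * x 1 * v 2 + u 0 * v 1 * x 2 + v 0 * x 1 * u 2 +
      v 0 * u 1 * x 2 = 1 := by
  decide

theorem exists_pair {u v : Vec} (hu : u ≠ 0) (hv : v ≠ 0) (huv : u ≠ v) :
    ∃ M : GLThree, (M : Mat).mulVec ![0, 1, 0] = u ∧ (M : Mat).mulVec ![0, 0, 1] = v := by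
  obtain ⟨x, hx⟩ := pair_cases u v hu hv huv
  let A : Mat := !![x 0, u 0, v 0; x 1, u 1, v 1; x 2, u 2, v 2]
  have hA : A.det = 1 := by
    rw [det_fin_three, ← hx]
    simp [A, CharTwo.sub_eq_add]
  refine ⟨⟨A, A.adjugate, by rw [mul_adjugate, hA, one_smul], by rw [adjugate_mul, hA, one_smul]⟩,
    ?_, ?_⟩ <;> funext i <;> fin_cases i <;> simp [A, mulVec, dotProduct, Fin.sum_univ_three]

theorem comm_ab (x : Mat) (h1 : (a : Mat) * x = x * (a : Mat)) (h2 : (b : Mat) * x = x * (b : Mat)) :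
    x = !![x 0 0, x 0 1, x 0 2; 0, x 0 0, 0; 0, 0, x 0 0] := by
  have e : ∀ (m : GLThree) (_ : (m : Mat) * x = x * (m : Mat)) (i j : Fin 3),
      ((m : Mat) * x) i j = (x * (m : Mat)) i j := fun m hm i j => by rw [hm]
  have a00 := e a h1 0 0
  have a01 := e a h1 0 1
  have a02 := e a h1 0 2
  have b00 := e b h2 0 0
  have b01 := e b h2 0 1
  have b02 := e b h2 0 2
  simp [a, b, Matrix.mul_apply, Fin.sum_univ_three] at a00 a01 a02 b00 b01 b02
  have x11 : x 1 1 = x 0 0 := by linear_combination a01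
  have x22 : x 2 2 = x 0 0 := by linear_combination b02
  ext i j
  fin_cases i <;> fin_cases j <;> simp_all

theorem orbit_cases : ∀ p q r : ZMod 2,
    (E : Mat) * !![p, q, r; 0, p, 0; 0, 0, p] = !![p, q, r; 0, p, 0; 0, 0, p] * (E : Mat) ∨
    ∀ i : Fin 7, (s : Mat) * !![p, q, r; 0, p, 0; 0, 0, p] * (s : Mat) ^ 2 ≠
      (E : Mat) ^ (i : ℕ) * !![p, q, r; 0, p, 0; 0, 0, p] * (E : Mat) ^ (7 - (i : ℕ)) := by
  decide

end GLElt

/-- The abstract squaring map. -/
structure SqMap (T : Type u) [CommGroup T] (ρ : GLThree →* MulAut T) (q : T → Vec)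
    (B : T → T → Vec) : Prop where
  sq : ∀ t : T, t * t = 1
  q_eq_zero : ∀ t, q t = 0 ↔ t = 1
  q_act : ∀ M t, q (ρ M t) = (M : Mat).mulVec (q t)
  q_mul : ∀ t t', q (t * t') = q t + q t' + B t t'
  B_mul : ∀ t₁ t₂ t', B (t₁ * t₂) t' = B t₁ t' + B t₂ t'
  nondeg : ∀ t, t ≠ 1 → ∃ t', B t t' ≠ 0
  nontrivial : ∃ t : T, t ≠ 1

/-- An operator of order seven without fixed points normalized by one of order three. -/
theorem card_le_aux {V : Type u} [AddCommGroup V] [Finite V] (h2 : ∀ v : V, v + v = 0)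
    (P S : V →+ V) (hP : ∀ v, P (P (P (P (P (P (P v)))))) = v)
    (hsum : ∀ v, v + P v + P (P v) + P (P (P v)) + P (P (P (P v))) + P (P (P (P (P v)))) +
      P (P (P (P (P (P v))))) = 0)
    (hS : ∀ v, S (S (S v)) = v) (hSP : ∀ v, S (P v) = P (P (S v))) :
    Nat.card V ≤ Nat.card {v : V // S v = v} ^ 3 := by
  let C := {v : V // S v = v}
  let f : C × C × C → V := fun w => (w.1 : V) + P w.2.1 + P (P w.2.2)
  let I : V → Prop := fun t => ∃ w, f w = t
  have hadd : ∀ t t', I t → I t' → I (t + t') := by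
    rintro _ _ ⟨⟨a, b, c⟩, rfl⟩ ⟨⟨a', b', c'⟩, rfl⟩
    refine ⟨⟨⟨a + a', by rw [map_add, a.2, a'.2]⟩, ⟨b + b', by rw [map_add, b.2, b'.2]⟩,
      ⟨c + c', by rw [map_add, c.2, c'.2]⟩⟩, ?_⟩
    simp only [f, map_add]
    abel
  have hPinv : ∀ t, I t → I (P t) := by
    rintro _ ⟨⟨a, b, c⟩, rfl⟩
    obtain ⟨e, he⟩ : ∃ e, e = P c + P (P c) + P (P (P (P (c : V)))) := ⟨_, rfl⟩
    have hse : S e = e := by
      rw [he]
      simp only [map_add, hSP, c.2, hP]
      abel
    refine ⟨⟨c, ⟨a + (c + e), by rw [map_add, map_add, a.2, c.2, hse]⟩,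
      ⟨b + e, by rw [map_add, b.2, hse]⟩⟩, ?_⟩
    simp only [f, map_add, he]
    calc _ = (P a + P (P b) + P (P (P c))) + ((c : V) + P c + P (P c) + P (P (P c)) +
        P (P (P (P c))) + P (P (P (P (P c)))) + P (P (P (P (P (P c)))))) := by abel
      _ = _ := by rw [hsum, add_zero]
  have hfix : ∀ u, I (u + S u + S (S u)) := fun u =>
    ⟨⟨⟨u + S u + S (S u), by rw [map_add, map_add, hS]; abel⟩, ⟨0, map_zero _⟩, ⟨0, map_zero _⟩⟩,
      by simp [f]⟩
  have hT : ∀ u, I (P u + P (S u) + P (S (S u))) := fun u => by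
    simpa only [map_add] using hPinv _ (hfix u)
  have hgen : ∀ t, I t := by
    intro t
    have e : (t + S t + S (S t)) +
        P (P (P (P (P (P (P t)))))) + P (S (P (P (P (P (P (P t))))))) + P (S (S (P (P (P (P (P (P t)))))))) +
        (P (P (P (P (P (P (P t)))))) + P (P (S (P (P (P (P (P t))))))) + P (P (S (S (P (P (P (P (P t))))))))) +
        (P (P (P (P (P (P (P t)))))) + P (P (P (S (P (P (P (P t))))))) + P (P (P (S (S (P (P (P (P t))))))))) +
        (P (P (P (P (P (P (P t)))))) + P (P (P (P (S (P (P (P t))))))) + P (P (P (P (S (S (P (P (P t))))))))) +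
        (P (P (P (P (P (P (P t)))))) + P (P (P (P (P (S (P (P t))))))) + P (P (P (P (P (S (S (P (P t))))))))) +
        (P (P (P (P (P (P (P t)))))) + P (P (P (P (P (P (S (P t))))))) + P (P (P (P (P (P (S (S (P t))))))))) =
        t := by
      simp only [hSP, hP]
      calc _ = (t + t) + (t + t) + (t + t) + t +
          (S t + P (S t) + P (P (S t)) + P (P (P (S t))) + P (P (P (P (S t)))) + P (P (P (P (P (S t))))) +
            P (P (P (P (P (P (S t))))))) +
          (S (S t) + P (S (S t)) + P (P (S (S t))) + P (P (P (S (S t)))) + P (P (P (P (S (S t))))) +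
            P (P (P (P (P (S (S t)))))) + P (P (P (P (P (P (S (S t)))))))) := by abel
        _ = t := by rw [hsum, hsum, h2 t]; simp
    rw [← e]
    refine hadd _ _ (hadd _ _ (hadd _ _ (hadd _ _ (hadd _ _ ?_ ?_) ?_) ?_) ?_) ?_
    · have := hadd _ _ (hfix t) (hT (P (P (P (P (P (P t)))))))
      simpa only [← add_assoc] using this
    · simpa only [map_add] using hPinv _ (hT (P (P (P (P (P t))))))
    · simpa only [map_add] using hPinv _ (hPinv _ (hT (P (P (P (P t))))))
    · simpa only [map_add] using hPinv _ (hPinv _ (hPinv _ (hT (P (P (P t))))))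
    · simpa only [map_add] using hPinv _ (hPinv _ (hPinv _ (hPinv _ (hT (P (P t))))))
    · simpa only [map_add] using hPinv _ (hPinv _ (hPinv _ (hPinv _ (hPinv _ (hT (P t))))))
  have := Nat.card_le_card_of_surjective f (fun t => hgen t)
  rwa [Nat.card_prod, Nat.card_prod, ← mul_assoc, ← pow_three'] at this

namespace SqMap

variable {T : Type u} [CommGroup T] {ρ : GLThree →* MulAut T} {q : T → Vec} {B : T → T → Vec}

theorem act_mul (ρ : GLThree →* MulAut T) (M N : GLThree) (t : T) :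
    ρ (M * N) t = ρ M (ρ N t) := by
  rw [map_mul]; rfl

theorem act_one (ρ : GLThree →* MulAut T) (t : T) : ρ 1 t = t := by rw [map_one]; rfl

theorem B_symm (h : SqMap T ρ q B) (t t' : T) : B t t' = B t' t := by
  have h1 := h.q_mul t t'
  rw [mul_comm, h.q_mul t' t, add_comm (q t') (q t)] at h1
  exact (add_left_cancel h1).symm

theorem B_self (h : SqMap T ρ q B) (t : T) : B t t = 0 := by
  have h1 := h.q_mul t t
  rw [h.sq, (h.q_eq_zero 1).2 rfl, ZModModule.add_self, zero_add] at h1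
  exact h1.symm

theorem B_act (h : SqMap T ρ q B) (M : GLThree) (t t' : T) :
    B (ρ M t) (ρ M t') = (M : Mat).mulVec (B t t') := by
  have h1 := h.q_mul (ρ M t) (ρ M t')
  rw [← map_mul, h.q_act, h.q_mul, mulVec_add, mulVec_add, h.q_act, h.q_act] at h1
  exact (add_left_cancel h1).symm

/-- At most four vectors have the same value in a subgroup. -/
theorem small (h : SqMap T ρ q B) {c : Vec} {x y z : T} (hx : q x = c) (hy : q y = c)
    (hz : q z = c) (hxy : q (x * y) = c) (hxz : q (x * z) = c) (hyz : q (y * z) = c)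
    (hxyz : q (x * (y * z)) = c) : c = 0 := by
  rw [h.q_mul, hx, hy, ZModModule.add_self, zero_add] at hxy
  rw [h.q_mul, hx, hz, ZModModule.add_self, zero_add] at hxz
  rw [h.q_mul, hx, hyz, ZModModule.add_self, zero_add, h.B_symm, h.B_mul, h.B_symm y, hxy,
    h.B_symm z, hxz, ZModModule.add_self] at hxyz
  exact hxyz.symm

theorem q_fixed_s (h : SqMap T ρ q B) {t : T} (ht : t ≠ 1) (hs : ρ GLElt.s t = t) :
    q t = ![1, 0, 0] := by
  rcases GLElt.fixed_s (q t) (by rw [← h.q_act, hs]) with e | e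
  · exact absurd ((h.q_eq_zero t).1 e) ht
  · exact e

/-- The elements fixed by the element of order three. -/
def fixS (ρ : GLThree →* MulAut T) : Subgroup T where
  carrier := {t | ρ GLElt.s t = t}
  one_mem' := map_one _
  mul_mem' {x y} (hx : ρ GLElt.s x = x) (hy : ρ GLElt.s y = y) :=
    show ρ GLElt.s (x * y) = x * y by rw [map_mul, hx, hy]
  inv_mem' {x} (hx : ρ GLElt.s x = x) := show ρ GLElt.s x⁻¹ = x⁻¹ by rw [map_inv, hx]

theorem mem_fixS {t : T} : t ∈ fixS ρ ↔ ρ GLElt.s t = t := Iff.rfl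

/-- The fixed points of the element of order three number at most four. -/
theorem card_fixS_le [Finite T] (h : SqMap T ρ q B) : Nat.card (fixS ρ) ≤ 4 := by
  classical
  letI := Fintype.ofFinite T
  by_contra hlt
  push Not at hlt
  rw [Nat.card_eq_fintype_card, ← Finset.card_univ] at hlt
  obtain ⟨x, -, hx⟩ := Finset.exists_mem_notMem_of_card_lt_card
    (s := ({1} : Finset (fixS ρ))) (t := Finset.univ) (by rw [Finset.card_singleton]; omega)
  simp only [Finset.mem_singleton] at hx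
  obtain ⟨y, -, hy⟩ := Finset.exists_mem_notMem_of_card_lt_card
    (s := ({1, x} : Finset (fixS ρ))) (t := Finset.univ)
    (by have := Finset.card_le_two (a := (1 : fixS ρ)) (b := x); omega)
  simp only [Finset.mem_insert, Finset.mem_singleton, not_or] at hy
  obtain ⟨z, -, hz⟩ := Finset.exists_mem_notMem_of_card_lt_card
    (s := ({1, x, y, x * y} : Finset (fixS ρ))) (t := Finset.univ)
    (by have := Finset.card_le_four (a := (1 : fixS ρ)) (b := x) (c := y) (d := x * y); omega)
  simp only [Finset.mem_insert, Finset.mem_singleton, not_or] at hz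
  have hq : ∀ w : fixS ρ, w ≠ 1 → q w = ![1, 0, 0] := fun w hw =>
    h.q_fixed_s (fun e => hw (Subtype.ext e)) w.2
  have hsq : ∀ w : fixS ρ, w * w = 1 := fun w => Subtype.ext (h.sq w)
  have key : ∀ v w : fixS ρ, v * w = 1 → v = w := fun v w e =>
    (eq_inv_of_mul_eq_one_left e).trans (inv_eq_of_mul_eq_one_right (hsq w))
  have := h.small (c := ![1, 0, 0]) (x := (x : T)) (y := (y : T)) (z := (z : T)) (hq x hx) (hq y hy.1)
    (hq z hz.1) (hq (x * y) fun e => hy.2 (key _ _ e).symm) (hq (x * z) fun e => hz.2.1 (key _ _ e).symm)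
    (hq (y * z) fun e => hz.2.2.1 (key _ _ e).symm) (hq (x * (y * z)) fun e => by
      rw [← mul_assoc] at e
      exact hz.2.2.2 (key _ _ e).symm)
  exact absurd this (by decide)

/-- `T` is spanned by three translates of the fixed points. -/
theorem card_le [Finite T] (h : SqMap T ρ q B) : Nat.card T ≤ Nat.card (fixS ρ) ^ 3 := by
  let P : Additive T →+ Additive T := MonoidHom.toAdditive (ρ GLElt.E).toMonoidHom
  let S : Additive T →+ Additive T := MonoidHom.toAdditive (ρ GLElt.s).toMonoidHom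
  have hPn : ∀ (n : ℕ) (v : Additive T),
      Additive.ofMul (ρ (GLElt.E ^ (n + 1)) v.toMul) = P (Additive.ofMul (ρ (GLElt.E ^ n) v.toMul)) :=
    fun n v => by rw [pow_succ', act_mul]; rfl
  have hP : ∀ v, P (P (P (P (P (P (P v)))))) = v := fun v => by
    have h' := hPn 6 v
    rw [show (6 : ℕ) + 1 = 7 from rfl, GLElt.E7, act_one] at h'
    simp only [hPn, pow_zero, act_one] at h'
    exact h'.symm
  refine card_le_aux (fun v => h.sq v.toMul) P S hP (fun v => ?_) (fun v => ?_) (fun v => ?_)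
    |>.trans_eq (congrArg (· ^ 3) (Nat.card_congr
      { toFun := fun v => ⟨v.1.toMul, v.2⟩, invFun := fun t => ⟨Additive.ofMul t.1, t.2⟩,
        left_inv := fun _ => rfl, right_inv := fun _ => rfl }))
  · apply Additive.toMul.injective
    refine (h.q_eq_zero _).1 (GLElt.fixed_E _ ?_)
    rw [← h.q_act]
    refine congrArg q (?_ : Additive.toMul (P _) = _)
    refine congrArg Additive.toMul ?_
    simp only [map_add, hP]
    abel
  · show ρ GLElt.s (ρ GLElt.s (ρ GLElt.s v.toMul)) = v.toMul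
    rw [← act_mul, ← act_mul, GLElt.s3, act_one]
  · show ρ GLElt.s (ρ GLElt.E v.toMul) = ρ GLElt.E (ρ GLElt.E (ρ GLElt.s v.toMul))
    rw [← act_mul, GLElt.sE, act_mul, pow_two, act_mul]

/-- A fibre of `q` has at most `(|T| - 1) / 7` elements. -/
theorem fibre_le [Finite T] (h : SqMap T ρ q B) (F : Finset T) (hF : ∀ t ∈ F, q t = ![1, 0, 0]) :
    7 * F.card < Nat.card T := by
  classical
  letI := Fintype.ofFinite T
  let img := (Finset.univ : Finset (Fin 7)) ×ˢ F
  have hinj : Set.InjOn (fun p : Fin 7 × T => ρ (GLElt.E ^ (p.1 : ℕ)) p.2) (img : Set (Fin 7 × T)) := by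
    rintro ⟨i, t⟩ ht ⟨j, t'⟩ ht' e
    simp only [img, Finset.coe_product, Set.mem_prod, Finset.coe_univ, Set.mem_univ, true_and,
      Finset.mem_coe] at ht ht'
    have e' := congrArg q e
    simp only [h.q_act, hF t ht, hF t' ht'] at e'
    have : i = j := (by decide : ∀ i j : Fin 7, ((GLElt.E ^ (i : ℕ) : GLThree) : Mat).mulVec ![1, 0, 0] =
      ((GLElt.E ^ (j : ℕ) : GLThree) : Mat).mulVec ![1, 0, 0] → i = j) i j e'
    subst this
    exact Prod.ext rfl ((ρ _).injective e)
  have h1 : (img.image fun p : Fin 7 × T => ρ (GLElt.E ^ (p.1 : ℕ)) p.2) ⊆ Finset.univ.erase 1 := by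
    intro t ht
    obtain ⟨⟨i, u⟩, hu, rfl⟩ := Finset.mem_image.1 ht
    refine Finset.mem_erase.2 ⟨fun e => ?_, Finset.mem_univ _⟩
    have hu' : u ∈ F := (Finset.mem_product.1 hu).2
    change ρ (GLElt.E ^ (i : ℕ)) u = 1 at e
    rw [map_eq_one_iff _ (ρ (GLElt.E ^ (i : ℕ))).injective] at e
    have := hF u hu'
    rw [e, (h.q_eq_zero 1).2 rfl] at this
    exact absurd this (by decide)
  have h2 := Finset.card_le_card h1
  rw [Finset.card_image_of_injOn hinj, Finset.card_product, Finset.card_erase_of_mem (Finset.mem_univ _),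
    Finset.card_univ, Finset.card_univ, Fintype.card_fin] at h2
  rw [Nat.card_eq_fintype_card]
  have : 0 < Fintype.card T := Fintype.card_pos
  omega

/-- Some vector over a point is fixed by the stabilizer of the point. -/
theorem exists_stab_fixed [Finite T] (h : SqMap T ρ q B) :
    ∃ f : T, q f = ![1, 0, 0] ∧ ∀ M : GLThree, (M : Mat).mulVec ![1, 0, 0] = ![1, 0, 0] → ρ M f = f := by
  classical
  -- fixed by both transvections
  have hab : ∀ t, ρ GLElt.a t = t → ρ GLElt.b t = t → t ≠ 1 → q t = ![1, 0, 0] := fun t h1 h2 ht => by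
    rcases GLElt.fixed_ab (q t) (by rw [← h.q_act, h1]) (by rw [← h.q_act, h2]) with e | e
    · exact absurd ((h.q_eq_zero t).1 e) ht
    · exact e
  have heq : ∀ x y : T, x * y = 1 → x = y := fun x y e =>
    (eq_inv_of_mul_eq_one_left e).trans (inv_eq_of_mul_eq_one_right (h.sq y))
  obtain ⟨t₀, ht₀, h0a, h0b⟩ : ∃ t, t ≠ 1 ∧ ρ GLElt.a t = t ∧ ρ GLElt.b t = t := by
    obtain ⟨t, ht⟩ := h.nontrivial
    obtain ⟨u, hu, hua⟩ : ∃ u, u ≠ 1 ∧ ρ GLElt.a u = u := by
      by_cases e : ρ GLElt.a t = t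
      · exact ⟨t, ht, e⟩
      · refine ⟨t * ρ GLElt.a t, fun e' => e (heq _ _ e').symm, ?_⟩
        rw [map_mul, ← act_mul, GLElt.aa, act_one, mul_comm]
    by_cases e : ρ GLElt.b u = u
    · exact ⟨u, hu, hua, e⟩
    · refine ⟨u * ρ GLElt.b u, fun e' => e (heq _ _ e').symm, ?_, ?_⟩
      · rw [map_mul, ← act_mul, ← GLElt.ab, act_mul, hua]
      · rw [map_mul, ← act_mul, GLElt.bb, act_one, mul_comm]
  by_cases hex : ∃ t, t ≠ 1 ∧ ρ GLElt.a t = t ∧ ρ GLElt.b t = t ∧ ρ GLElt.s t = t
  · obtain ⟨t, ht, hta, htb, hts⟩ := hex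
    obtain ⟨f, hf, hfa, hfb, hfs, hfg⟩ : ∃ f, f ≠ 1 ∧ ρ GLElt.a f = f ∧ ρ GLElt.b f = f ∧
        ρ GLElt.s f = f ∧ ρ GLElt.g f = f := by
      by_cases e : ρ GLElt.g t = t
      · exact ⟨t, ht, hta, htb, hts, e⟩
      · refine ⟨t * ρ GLElt.g t, fun e' => e (heq _ _ e').symm, ?_, ?_, ?_, ?_⟩
        · rw [map_mul, ← act_mul, GLElt.ga, act_mul, hta, htb]
        · rw [map_mul, ← act_mul, GLElt.gb, act_mul, htb, hta]
        · rw [map_mul, ← act_mul, GLElt.sg, act_mul, act_mul, hts, hts]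
        · rw [map_mul, ← act_mul, GLElt.gg, act_one, mul_comm]
    refine ⟨f, hab f hfa hfb hf, fun M hM => ?_⟩
    obtain ⟨i, j, k, l, rfl⟩ := GLElt.stab_gen M hM
    have hp : ∀ (x : GLThree) (n : ℕ), ρ x f = f → ρ (x ^ n) f = f := fun x n hx => by
      induction n with
      | zero => rw [pow_zero, act_one]
      | succ n ih => rw [pow_succ, act_mul, hx, ih]
    rw [act_mul, act_mul, act_mul, hp _ l hfg, hp _ k hfs, hp _ j hfb, hp _ i hfa]
  exfalso
  push Not at hex
  -- otherwise there are too many vectors over the point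
  letI := Fintype.ofFinite T
  obtain ⟨t₁, ht₁def⟩ : ∃ t₁, t₁ = ρ GLElt.s t₀ := ⟨_, rfl⟩
  have hne01 : t₀ ≠ t₁ := fun e => hex t₀ ht₀ h0a h0b (by rw [← ht₁def]; exact e.symm)
  have hq0 : q t₀ = ![1, 0, 0] := hab t₀ h0a h0b ht₀
  have hq1 : q t₁ = ![1, 0, 0] := by rw [ht₁def, h.q_act, hq0]; decide
  -- two points fixed by the element of order three
  obtain ⟨s₁, s₂, hs₁, hs₂, hn1, hn2, hs12⟩ : ∃ s₁ s₂, ρ GLElt.s s₁ = s₁ ∧ ρ GLElt.s s₂ = s₂ ∧
      s₁ ≠ 1 ∧ s₂ ≠ 1 ∧ s₁ ≠ s₂ := by
    by_contra hno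
    push Not at hno
    have hC : Nat.card (fixS ρ) ≤ 2 := by
      rw [Nat.card_eq_fintype_card, ← Finset.card_univ]
      by_contra hgt
      push Not at hgt
      obtain ⟨x, -, hx⟩ := Finset.exists_mem_notMem_of_card_lt_card
        (s := ({1} : Finset (fixS ρ))) (t := Finset.univ) (by rw [Finset.card_singleton]; omega)
      simp only [Finset.mem_singleton] at hx
      obtain ⟨y, -, hy⟩ := Finset.exists_mem_notMem_of_card_lt_card
        (s := ({1, x} : Finset (fixS ρ))) (t := Finset.univ)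
        (by have := Finset.card_le_two (a := (1 : fixS ρ)) (b := x); omega)
      simp only [Finset.mem_insert, Finset.mem_singleton, not_or] at hy
      exact hy.2 (Subtype.ext (hno x y x.2 y.2 (fun e => hx (Subtype.ext e))
        (fun e => hy.1 (Subtype.ext e))).symm)
    have h1 := h.card_le.trans (Nat.pow_le_pow_left hC 3)
    have h2 := h.fibre_le ({t₀, t₁} : Finset T) (fun t ht => by
      rcases Finset.mem_insert.1 ht with e | e
      · rw [e, hq0]
      · rw [Finset.mem_singleton.1 e, hq1])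
    rw [Finset.card_pair hne01] at h2
    omega
  -- the orbits of `⟨a, b⟩` on them
  have hstab : ∀ x, ρ GLElt.s x = x → x ≠ 1 → ρ GLElt.a x ≠ x ∧ ρ GLElt.b x ≠ x ∧
      ρ (GLElt.a * GLElt.b) x ≠ x := by
    intro x hx hx1
    have i1 : ρ GLElt.b x = x → ρ GLElt.a x = x := fun e => by
      have h' := act_mul ρ GLElt.a GLElt.s x
      rw [GLElt.as, act_mul, hx, e, hx] at h'
      exact h'.symm
    have i2 : ρ (GLElt.a * GLElt.b) x = x → ρ GLElt.b x = x := fun e => by
      have h' := act_mul ρ GLElt.b GLElt.s x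
      rw [GLElt.bs, act_mul, e, hx] at h'
      exact h'.symm
    have i3 : ρ GLElt.a x = x → ρ GLElt.b x = x := fun e => by
      have h' := act_mul ρ GLElt.a GLElt.s x
      rw [GLElt.as, act_mul, hx, e] at h'
      exact (ρ GLElt.s).injective (h'.trans hx.symm)
    exact ⟨fun e => hex x hx1 e (i3 e) hx, fun e => hex x hx1 (i1 e) e hx,
      fun e => hex x hx1 (i1 (i2 e)) (i2 e) hx⟩
  let v : Fin 4 → GLThree := ![1, GLElt.a, GLElt.b, GLElt.a * GLElt.b]
  have hvv : ∀ i j : Fin 4, ∃ k : Fin 4, (v k : Mat) = (v i : Mat) * (v j : Mat) ∧ (k = 0 → i = j) := by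
    decide
  have hvs : ∀ i : Fin 4, ∃ k : Fin 4, (GLElt.s : Mat) * (v i : Mat) = (v k : Mat) * (GLElt.s : Mat) := by
    decide
  have hvne : ∀ x, ρ GLElt.s x = x → x ≠ 1 → ∀ k : Fin 4, ρ (v k) x = x → k = 0 := by
    intro x hx hx1 k hk
    obtain ⟨n1, n2, n3⟩ := hstab x hx hx1
    match k with
    | 0 => rfl
    | 1 => exact absurd hk n1
    | 2 => exact absurd hk n2
    | 3 => exact absurd hk n3
  have hinjV : ∀ x y, ρ GLElt.s x = x → ρ GLElt.s y = y → x ≠ 1 → y ≠ 1 → ∀ i j : Fin 4,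
      ρ (v i) x = ρ (v j) y → i = j ∧ x = y := by
    intro x y hx hy hx1 hy1 i j e
    obtain ⟨k, hk, hk0⟩ := hvv j i
    have e' : ρ (v k) x = y := by
      rw [show v k = v j * v i from Units.ext hk, act_mul, e, ← act_mul]
      have : v j * v j = 1 := Units.ext ((by decide : ∀ j : Fin 4, (v j : Mat) * (v j : Mat) = 1) j)
      rw [this, act_one]
    obtain ⟨k', hk'⟩ := hvs k
    have e2 : ρ (v k') x = y := by
      conv_rhs => rw [← hy, ← e', ← act_mul, show GLElt.s * v k = v k' * GLElt.s from Units.ext hk', act_mul, hx]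
    have hkk : k' = k := by
      obtain ⟨k'', hk'', hk''0⟩ := hvv k k'
      refine (hk''0 (hvne x hx hx1 k'' ?_)).symm
      rw [show v k'' = v k * v k' from Units.ext hk'', act_mul, e2, ← e', ← act_mul,
        show v k * v k = 1 from Units.ext ((by decide : ∀ j : Fin 4, (v j : Mat) * (v j : Mat) = 1) k), act_one]
    have hk0' : k = 0 := (by decide : ∀ k : Fin 4,
      (GLElt.s : Mat) * (v k : Mat) = (v k : Mat) * (GLElt.s : Mat) → k = 0) k (by rw [hk', hkk])
    refine ⟨(hk0 hk0').symm, ?_⟩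
    rw [hk0'] at e'
    exact (act_one ρ x).symm.trans e'
  let sel : Fin 2 → T := ![s₁, s₂]
  have hsel : ∀ i, ρ GLElt.s (sel i) = sel i ∧ sel i ≠ 1 := by
    intro i
    match i with
    | 0 => exact ⟨hs₁, hn1⟩
    | 1 => exact ⟨hs₂, hn2⟩
  let S : Finset T := (Finset.univ : Finset (Fin 2 × Fin 4)).image fun p => ρ (v p.2) (sel p.1)
  have hScard : S.card = 8 := by
    rw [Finset.card_image_of_injective]
    · rfl
    rintro ⟨i, j⟩ ⟨i', j'⟩ e
    obtain ⟨rfl, hxy⟩ := hinjV _ _ (hsel i).1 (hsel i').1 (hsel i).2 (hsel i').2 j j' e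
    match i, i' with
    | 0, 0 => rfl
    | 1, 1 => rfl
    | 0, 1 => exact absurd hxy hs12
    | 1, 0 => exact absurd hxy hs12.symm
  have hfixv : ∀ t, ρ GLElt.a t = t → ρ GLElt.b t = t → ∀ j, ρ (v j) t = t := by
    intro t h1 h2 j
    match j with
    | 0 => exact act_one ρ t
    | 1 => exact h1
    | 2 => exact h2
    | 3 => show ρ (GLElt.a * GLElt.b) t = t; rw [act_mul, h2, h1]
  have hnotS : ∀ t, ρ GLElt.a t = t → ρ GLElt.b t = t → t ≠ 1 → t ∉ S := by
    intro t h1 h2 ht hS
    obtain ⟨⟨i, j⟩, -, hij⟩ := Finset.mem_image.1 hS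
    have e : sel i = t := (ρ (v j)).injective (hij.trans (hfixv t h1 h2 j).symm)
    exact hex t ht h1 h2 (e ▸ (hsel i).1)
  have h1a : ρ GLElt.a t₁ = t₁ := by rw [ht₁def, ← act_mul, GLElt.as, act_mul, h0b]
  have h1b : ρ GLElt.b t₁ = t₁ := by rw [ht₁def, ← act_mul, GLElt.bs, act_mul, act_mul, h0b, h0a]
  have ht₁ : t₁ ≠ 1 := fun e => ht₀ (by
    rwa [ht₁def, map_eq_one_iff _ (ρ GLElt.s).injective] at e)
  have h2 := h.fibre_le (insert t₀ (insert t₁ S)) (fun t ht => by
    rcases Finset.mem_insert.1 ht with e | ht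
    · rw [e, hq0]
    rcases Finset.mem_insert.1 ht with e | ht
    · rw [e, hq1]
    obtain ⟨⟨i, j⟩, -, rfl⟩ := Finset.mem_image.1 ht
    rw [h.q_act, h.q_fixed_s (hsel i).2 (hsel i).1]
    exact (by decide : ∀ j : Fin 4, (v j : Mat).mulVec ![1, 0, 0] = ![1, 0, 0]) j)
  rw [Finset.card_insert_of_notMem (by
      simp only [Finset.mem_insert, not_or]
      exact ⟨hne01, hnotS t₀ h0a h0b ht₀⟩),
    Finset.card_insert_of_notMem (hnotS t₁ h1a h1b ht₁), hScard] at h2
  have h3 := h.card_le.trans (Nat.pow_le_pow_left h.card_fixS_le 3)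
  omega

/-- There is no such map. -/
theorem false [Finite T] (h : SqMap T ρ q B) : False := by
  classical
  letI := Fintype.ofFinite T
  obtain ⟨f, hqf, hfix⟩ := h.exists_stab_fixed
  have heq : ∀ x y : T, x * y = 1 → x = y := fun x y e =>
    (eq_inv_of_mul_eq_one_left e).trans (inv_eq_of_mul_eq_one_right (h.sq y))
  -- the section
  obtain ⟨m, hm, hm0⟩ : ∃ m : Vec → T, (∀ M : GLThree, ρ M f = m ((M : Mat).mulVec ![1, 0, 0])) ∧ m 0 = 1 := by
    refine ⟨fun v => if hv : ∃ M : GLThree, (M : Mat).mulVec ![1, 0, 0] = v then ρ hv.choose f else 1,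
      fun M => ?_, ?_⟩
    · have hv : ∃ N : GLThree, (N : Mat).mulVec ![1, 0, 0] = (M : Mat).mulVec ![1, 0, 0] := ⟨M, rfl⟩
      dsimp only
      rw [dif_pos hv]
      obtain ⟨N, hN⟩ : ∃ N, N = hv.choose := ⟨_, rfl⟩
      have hspec := hv.choose_spec
      rw [← hN] at hspec ⊢
      have h' := hfix (N⁻¹ * M) (by
        rw [Units.val_mul, ← mulVec_mulVec, ← hspec, mulVec_mulVec, ← Units.val_mul,
          inv_mul_cancel, Units.val_one, one_mulVec])
      have h'' := congrArg (ρ N) h'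
      rwa [← act_mul, mul_inv_cancel_left] at h''
    · dsimp only
      rw [dif_neg]
      rintro ⟨M, hM⟩
      have := congrArg ((M⁻¹ : GLThree) : Mat).mulVec hM
      rw [mulVec_mulVec, ← Units.val_mul, inv_mul_cancel, Units.val_one, one_mulVec, mulVec_zero] at this
      exact absurd this (by decide)
  have hEv : ∀ v : Vec, v ≠ 0 → ∃ i : ℕ, ((GLElt.E ^ i : GLThree) : Mat).mulVec ![1, 0, 0] = v := by
    intro v hv
    obtain ⟨i, hi⟩ := matE_transitive v hv
    exact ⟨i, by rw [Units.val_pow_eq_pow_val]; exact hi⟩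
  have hmq : ∀ v, q (m v) = v := fun v => by
    by_cases hv : v = 0
    · rw [hv, hm0, (h.q_eq_zero 1).2 rfl]
    · obtain ⟨i, rfl⟩ := hEv v hv
      rw [← hm, h.q_act, hqf]
  have hmact : ∀ (M : GLThree) v, ρ M (m v) = m ((M : Mat).mulVec v) := fun M v => by
    by_cases hv : v = 0
    · rw [hv, hm0, mulVec_zero, hm0, map_one]
    · obtain ⟨i, rfl⟩ := hEv v hv
      rw [← hm, ← act_mul, hm, Units.val_mul, ← mulVec_mulVec]
  -- the standard line
  have hB12 : B (m ![0, 1, 0]) (m ![0, 0, 1]) = 0 := by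
    have h1 := h.B_act GLElt.c₁ (m ![0, 1, 0]) (m ![0, 0, 1])
    have h2 := h.B_act GLElt.g (m ![0, 1, 0]) (m ![0, 0, 1])
    rw [hmact, hmact, show (GLElt.c₁ : Mat).mulVec ![0, 1, 0] = ![0, 1, 0] by decide,
      show (GLElt.c₁ : Mat).mulVec ![0, 0, 1] = ![0, 0, 1] by decide] at h1
    rw [hmact, hmact, show (GLElt.g : Mat).mulVec ![0, 1, 0] = ![0, 0, 1] by decide,
      show (GLElt.g : Mat).mulVec ![0, 0, 1] = ![0, 1, 0] by decide, h.B_symm] at h2
    rcases GLElt.fixed_line _ h1.symm h2.symm with e | e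
    · exact e
    · exfalso
      have e' : q (m ![0, 1, 0] * m ![0, 0, 1]) = 0 := by
        rw [h.q_mul, hmq, hmq, e]; decide
      have h' := congrArg q (heq _ _ ((h.q_eq_zero _).1 e'))
      rw [hmq, hmq] at h'
      exact absurd h' (by decide)
  have hB : ∀ u v, u ≠ 0 → v ≠ 0 → u ≠ v → B (m u) (m v) = 0 := fun u v hu hv huv => by
    obtain ⟨M, rfl, rfl⟩ := GLElt.exists_pair hu hv huv
    rw [← hmact, ← hmact, h.B_act, hB12, mulVec_zero]
  have hmadd : ∀ u v, m (u + v) = m u * m v := fun u v => by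
    by_cases hu : u = 0
    · rw [hu, zero_add, hm0, one_mul]
    by_cases hv : v = 0
    · rw [hv, add_zero, hm0, mul_one]
    by_cases huv : u = v
    · rw [huv, ZModModule.add_self, hm0, h.sq]
    have huv0 : u + v ≠ 0 := fun e => huv (by
      rw [← add_zero u, ← ZModModule.add_self v, ← add_assoc, e, zero_add])
    have hu' : u ≠ u + v := fun e => hv (left_eq_add.1 e)
    have hv' : v ≠ u + v := fun e => hu (right_eq_add.1 e)
    refine (heq _ _ ((h.q_eq_zero _).1 ?_)).symm
    rw [h.q_mul, h.q_mul, hmq, hmq, hmq, hB u v hu hv huv, h.B_mul, hB u _ hu huv0 hu',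
      hB v _ hv huv0 hv', add_zero, add_zero, add_zero, ZModModule.add_self]
  -- the form as matrices
  let F : Additive T →+ Mat :=
    { toFun := fun t => Matrix.of fun i j => B t.toMul (m (Pi.single j 1)) i
      map_zero' := by
        ext i j
        show B (1 : T) _ i = 0
        have h' := h.B_mul 1 1 (m (Pi.single j 1))
        rw [mul_one] at h'
        rw [left_eq_add.1 h']; rfl
      map_add' := fun t t' => by
        ext i j
        show B (t.toMul * t'.toMul) _ i = _
        rw [h.B_mul]; rfl }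
  have hFv : ∀ t v, (F (Additive.ofMul t)).mulVec v = B t (m v) := fun t v => by
    have hsum : ∀ u w, B t (m (u + w)) = B t (m u) + B t (m w) := fun u w => by
      rw [hmadd, h.B_symm, h.B_mul, h.B_symm, h.B_symm (m w)]
    have h0 : B t (m 0) = 0 := by
      have := hsum 0 0
      rw [add_zero] at this
      exact left_eq_add.1 this
    have hs : ∀ (c : ZMod 2) (u : Vec), B t (m (c • u)) = c • B t (m u) := fun c u => by
      rcases vec_cases c with rfl | rfl
      · rw [zero_smul, zero_smul, h0]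
      · rw [one_smul, one_smul]
    have hv : v = v 0 • (Pi.single 0 1 : Vec) + v 1 • Pi.single 1 1 + v 2 • Pi.single 2 1 := by
      funext i; fin_cases i <;> simp
    conv_rhs => rw [hv, hsum, hsum, hs, hs, hs]
    funext i
    simp [F, mulVec, dotProduct, Fin.sum_univ_three]
    ring
  have hFact : ∀ (M : GLThree) t, F (Additive.ofMul (ρ M t)) =
      (M : Mat) * F (Additive.ofMul t) * ((M⁻¹ : GLThree) : Mat) := fun M t => by
    refine Matrix.ext_of_mulVec_single fun j => ?_
    rw [← mulVec_mulVec, ← mulVec_mulVec, hFv, hFv]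
    have := h.B_act M t (m (((M⁻¹ : GLThree) : Mat).mulVec (Pi.single j 1)))
    rw [hmact, mulVec_mulVec, ← Units.val_mul, mul_inv_cancel, Units.val_one, one_mulVec] at this
    exact this
  let m' : Vec →+ Additive T :=
    { toFun := fun v => Additive.ofMul (m v)
      map_zero' := by rw [hm0]; rfl
      map_add' := fun u v => by rw [hmadd]; rfl }
  have hinjm : Function.Injective m' := fun u v e => by
    have := congrArg q (show m u = m v from e)
    rwa [hmq, hmq] at this
  have hFm : ∀ u, F (m' u) = 0 := fun u => by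
    refine Matrix.ext_of_mulVec_single fun j => ?_
    show (F (Additive.ofMul (m u))).mulVec _ = _
    rw [hFv, zero_mulVec]
    by_cases hu : u = 0
    · rw [hu, hm0]
      have h' := h.B_mul 1 1 (m (Pi.single j 1))
      rw [mul_one] at h'
      exact left_eq_add.1 h'
    by_cases e : u = Pi.single j 1
    · rw [e, h.B_self]
    · exact hB _ _ hu (by simp) e
  have hcard : Nat.card F.range ≤ 8 := by
    have h1 : Nat.card F.range * Nat.card F.ker = Nat.card (Additive T) := by
      rw [← AddSubgroup.index_ker F, AddSubgroup.index_mul_card]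
    have h2 : Nat.card Vec ≤ Nat.card F.ker :=
      Nat.card_le_card_of_injective (fun u => (⟨m' u, hFm u⟩ : F.ker)) fun u v e =>
        hinjm (congrArg Subtype.val e)
    rw [show Nat.card Vec = 8 by simp] at h2
    have h3 : Nat.card (Additive T) ≤ 64 := by
      have := h.card_le.trans (Nat.pow_le_pow_left h.card_fixS_le 3)
      exact this.trans (by norm_num)
    nlinarith
  -- the image is invariant and non-zero
  have hXinv : ∀ (M : GLThree) x, x ∈ F.range → (M : Mat) * x * ((M⁻¹ : GLThree) : Mat) ∈ F.range := by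
    rintro M _ ⟨t, rfl⟩
    exact ⟨Additive.ofMul (ρ M t.toMul), hFact M t.toMul⟩
  obtain ⟨t, ht⟩ : ∃ t, F t ≠ 0 := by
    by_contra hall
    push Not at hall
    have hf1 : f ≠ 1 := fun e => by
      rw [e, (h.q_eq_zero 1).2 rfl] at hqf
      exact absurd hqf (by decide)
    obtain ⟨t', ht'⟩ := h.nondeg f hf1
    apply ht'
    have hf : f = m ![1, 0, 0] := by
      have := hm 1
      rwa [act_one, Units.val_one, one_mulVec] at this
    rw [h.B_symm, hf]
    show B (Additive.toMul (Additive.ofMul t')) _ = _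
    rw [toMul_ofMul, ← hFv, hall, zero_mulVec]
  -- no image is fixed by `E`
  have hE : ∀ x ∈ F.range, (GLElt.E : Mat) * x = x * (GLElt.E : Mat) → x = 0 := by
    rintro _ ⟨u, rfl⟩ hcom
    have hfixE : ∀ n : ℕ, F (Additive.ofMul (ρ (GLElt.E ^ n) u.toMul)) = F u := fun n => by
      induction n with
      | zero => rw [pow_zero, act_one]; rfl
      | succ n ih =>
        rw [pow_succ', act_mul, hFact, ih, hcom, mul_assoc, ← Units.val_mul, mul_inv_cancel,
          Units.val_one, mul_one]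
    let P : ℕ → T := fun n => ρ (GLElt.E ^ n) u.toMul
    have hsum : P 0 * P 1 * P 2 * P 3 * P 4 * P 5 * P 6 = 1 := by
      rw [← h.q_eq_zero]
      refine GLElt.fixed_E _ ?_
      rw [← h.q_act]
      congr 1
      simp only [map_mul, P, ← act_mul, ← pow_succ']
      rw [show (6 : ℕ) + 1 = 7 from rfl, GLElt.E7, pow_zero]
      have rot : ∀ a b c d e f g : T, b * c * d * e * f * g * a = a * b * c * d * e * f * g :=
        fun a b c d e f g => by rw [mul_comm _ a]; simp only [mul_assoc]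
      exact rot _ _ _ _ _ _ _
    have := congrArg (fun z => F (Additive.ofMul z)) hsum
    simp only [ofMul_mul, map_add, P, hfixE, ofMul_one, map_zero] at this
    rwa [show F u + F u + F u + F u + F u + F u + F u = F u + (2 : ℕ) • (F u + F u + F u) by abel,
      two_nsmul, ZModModule.add_self, add_zero] at this
  have hneg : ∀ x : Mat, x + x = 0 := fun x => ZModModule.add_self x
  -- an element of the image commuting with both transvections
  obtain ⟨x, hx, hx0, hxa, hxb⟩ : ∃ x ∈ F.range, x ≠ 0 ∧ (GLElt.a : Mat) * x = x * (GLElt.a : Mat) ∧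
      (GLElt.b : Mat) * x = x * (GLElt.b : Mat) := by
    have key : ∀ (M : GLThree), M * M = 1 → ∀ x ∈ F.range, x ≠ 0 →
        ∃ y ∈ F.range, y ≠ 0 ∧ (M : Mat) * y = y * (M : Mat) ∧
          (y = x ∨ y = x + (M : Mat) * x * (M : Mat)) := by
      intro M hM x hx hx0
      have hMM : (M : Mat) * (M : Mat) = 1 := by rw [← Units.val_mul, hM]; rfl
      by_cases e : (M : Mat) * x = x * (M : Mat)
      · exact ⟨x, hx, hx0, e, Or.inl rfl⟩
      refine ⟨_, F.range.add_mem hx (by
        have := hXinv M x hx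
        rwa [inv_eq_of_mul_eq_one_right hM] at this), fun e' => e ?_, ?_, Or.inr rfl⟩
      · have e2 : (M : Mat) * x * (M : Mat) = x := by
          rw [← zero_add ((M : Mat) * x * (M : Mat)), ← hneg x, add_assoc, e', add_zero]
        calc (M : Mat) * x = (M : Mat) * x * ((M : Mat) * (M : Mat)) := by rw [hMM, mul_one]
          _ = x * (M : Mat) := by rw [← mul_assoc, e2]
      · rw [mul_add, add_mul, ← mul_assoc, ← mul_assoc, hMM, one_mul, mul_assoc ((M : Mat) * x), hMM,
          mul_one, add_comm]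
    obtain ⟨y, hy, hy0, hya, -⟩ := key GLElt.a GLElt.aa (F t) ⟨t, rfl⟩ ht
    obtain ⟨z, hz, hz0, hzb, hzdef⟩ := key GLElt.b GLElt.bb y hy hy0
    refine ⟨z, hz, hz0, ?_, hzb⟩
    have hab : (GLElt.a : Mat) * (GLElt.b : Mat) = (GLElt.b : Mat) * (GLElt.a : Mat) :=
      (congrArg Units.val GLElt.ab).symm
    rcases hzdef with rfl | rfl
    · exact hya
    · rw [mul_add, add_mul, ← mul_assoc, ← mul_assoc, hab, mul_assoc _ _ y, hya]
      simp only [mul_assoc]
      rw [hab]
  rcases GLElt.orbit_cases (x 0 0) (x 0 1) (x 0 2) with e | e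
  · rw [← GLElt.comm_ab x hxa hxb] at e
    exact hx0 (hE x hx e)
  rw [← GLElt.comm_ab x hxa hxb] at e
  -- the translates exhaust the image
  let tr : Fin 7 → Mat := fun i => (GLElt.E : Mat) ^ (i : ℕ) * x * (GLElt.E : Mat) ^ (7 - (i : ℕ))
  have hE7 : (GLElt.E : Mat) ^ 7 = 1 := by rw [← Units.val_pow_eq_pow_val, GLElt.E7]; rfl
  have htrmem : ∀ i, tr i ∈ F.range := fun i => by
    have := hXinv (GLElt.E ^ (i : ℕ)) x hx
    rwa [inv_eq_of_mul_eq_one_right (b := GLElt.E ^ (7 - (i : ℕ))) (by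
      rw [← pow_add, Nat.add_sub_cancel' (le_of_lt i.2), GLElt.E7]), Units.val_pow_eq_pow_val,
      Units.val_pow_eq_pow_val] at this
  have hxs : (GLElt.s : Mat) * x * (GLElt.s : Mat) ^ 2 ∈ F.range := by
    have := hXinv GLElt.s x hx
    rwa [inv_eq_of_mul_eq_one_right (b := GLElt.s ^ 2) (by rw [pow_two, ← mul_assoc, GLElt.s3]),
      Units.val_pow_eq_pow_val] at this
  have hsne : (GLElt.s : Mat) * x * (GLElt.s : Mat) ^ 2 ≠ 0 := by
    intro e0
    apply hx0
    have hs2 : (GLElt.s : Mat) ^ 2 * (GLElt.s : Mat) = 1 := by decide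
    calc x = ((GLElt.s : Mat) ^ 2 * (GLElt.s : Mat)) * x * ((GLElt.s : Mat) ^ 2 * (GLElt.s : Mat)) := by
          rw [hs2, one_mul, mul_one]
      _ = (GLElt.s : Mat) ^ 2 * ((GLElt.s : Mat) * x * (GLElt.s : Mat) ^ 2) * (GLElt.s : Mat) := by
          simp only [mul_assoc]
      _ = 0 := by rw [e0, mul_zero, zero_mul]
  have htrne : ∀ i, tr i ≠ 0 := fun i e0 => hx0 (by
    calc x = ((GLElt.E : Mat) ^ (7 - (i : ℕ)) * (GLElt.E : Mat) ^ (i : ℕ)) * x *
          ((GLElt.E : Mat) ^ (7 - (i : ℕ)) * (GLElt.E : Mat) ^ (i : ℕ)) := by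
          rw [← pow_add, Nat.sub_add_cancel (le_of_lt i.2), hE7, one_mul, mul_one]
      _ = (GLElt.E : Mat) ^ (7 - (i : ℕ)) * tr i * (GLElt.E : Mat) ^ (i : ℕ) := by
          simp only [tr, mul_assoc]
      _ = 0 := by rw [e0, mul_zero, zero_mul])
  have hinj : Function.Injective tr := by
    intro i j hij
    have key : ∀ k : Fin 7, (GLElt.E : Mat) ^ (k : ℕ) * x = x * (GLElt.E : Mat) ^ (k : ℕ) → k = 0 := by
      intro k hk
      by_contra hk0
      have hstep : ∀ n : ℕ, Commute ((GLElt.E : Mat) ^ ((k : ℕ) * n)) x := fun n => by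
        rw [pow_mul]; exact Commute.pow_left hk n
      obtain ⟨n, hn⟩ := (by decide : ∀ k : Fin 7, k ≠ 0 → ∃ n : Fin 7, (k : ℕ) * (n : ℕ) % 7 = 1) k hk0
      have h1 := hstep n
      rw [← Nat.div_add_mod ((k : ℕ) * (n : ℕ)) 7, hn, pow_add, pow_mul, hE7, one_pow, one_mul, pow_one] at h1
      exact hx0 (hE x hx h1.eq)
    have hk : (GLElt.E : Mat) ^ (((j - i : Fin 7)) : ℕ) * x = x * (GLElt.E : Mat) ^ (((j - i : Fin 7)) : ℕ) := by
      have e1 : (GLElt.E : Mat) ^ (((j - i : Fin 7)) : ℕ) =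
          (GLElt.E : Mat) ^ (7 - (i : ℕ)) * (GLElt.E : Mat) ^ (j : ℕ) := by
        rw [← pow_add, Fin.val_sub, ← Nat.div_add_mod (7 - (i : ℕ) + (j : ℕ)) 7, pow_add, pow_mul, hE7,
          one_pow, one_mul, Nat.div_add_mod]
      rw [e1]
      calc (GLElt.E : Mat) ^ (7 - (i : ℕ)) * (GLElt.E : Mat) ^ (j : ℕ) * x =
            (GLElt.E : Mat) ^ (7 - (i : ℕ)) * tr j * (GLElt.E : Mat) ^ (j : ℕ) := by
            simp only [tr, mul_assoc]
            rw [← pow_add, Nat.sub_add_cancel (le_of_lt j.2), hE7, mul_one]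
        _ = (GLElt.E : Mat) ^ (7 - (i : ℕ)) * tr i * (GLElt.E : Mat) ^ (j : ℕ) := by rw [hij]
        _ = ((GLElt.E : Mat) ^ (7 - (i : ℕ)) * (GLElt.E : Mat) ^ (i : ℕ)) * x *
            ((GLElt.E : Mat) ^ (7 - (i : ℕ)) * (GLElt.E : Mat) ^ (j : ℕ)) := by
            simp only [tr, mul_assoc]
        _ = _ := by rw [← pow_add, Nat.sub_add_cancel (le_of_lt i.2), hE7, one_mul]
    exact (sub_eq_zero.1 (key _ hk)).symm
  let S : Finset Mat := insert 0 (insert ((GLElt.s : Mat) * x * (GLElt.s : Mat) ^ 2) (Finset.univ.image tr))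
  have hS9 : S.card = 9 := by
    rw [Finset.card_insert_of_notMem, Finset.card_insert_of_notMem,
      Finset.card_image_of_injective _ hinj, Finset.card_univ, Fintype.card_fin]
    · simp only [Finset.mem_image, Finset.mem_univ, true_and, not_exists]
      exact fun i hi => e i hi.symm
    · simp only [Finset.mem_insert, Finset.mem_image, Finset.mem_univ, true_and, not_or, not_exists]
      exact ⟨hsne.symm, fun i => htrne i⟩
  have hS : ∀ y ∈ S, y ∈ F.range := fun y hy => by
    rcases Finset.mem_insert.1 hy with e | hy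
    · rw [e]; exact F.range.zero_mem
    rcases Finset.mem_insert.1 hy with e | hy
    · rw [e]; exact hxs
    obtain ⟨i, -, rfl⟩ := Finset.mem_image.1 hy
    exact htrmem i
  have := Nat.card_le_card_of_injective (fun y : S => (⟨y.1, hS y y.2⟩ : F.range)) fun y y' e =>
    Subtype.ext (congrArg Subtype.val e :)
  rw [Nat.card_eq_fintype_card, Fintype.card_coe, hS9] at this
  omega

end SqMap

end CfsgLib.BenderWorld.InvolInZ
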